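import Cfsg.Agent.Lib.BrauerPairs.PiKernel
import Cfsg.Agent.Lib.Blocks.SecondMain

/-!
# Idempotents of linear characters of subgroups of order prime to `p`, in Brauer pairs

* `twEl K f`: the idempotent of the linear character `f` of `K`;
* `step_down`: a central idempotent fixing the larger pair of a step fixes the smaller one;
* `blk_mul_twEl_iff`: a block is fixed by the idempotent iff its members restrict to multiples of `f`.
-/

set_option autoImplicit false
set_option linter.unusedSectionVars false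

open MonoidAlgebra Cfsg
open scoped Cfsg.Agent.Blocks

namespace Cfsg.Agent.GW.LinearFixed

universe u

section Abstract

variable {k : Type*} [Field k] {G : Type u} [Group G] [Finite G] {p : ℕ} [Fact p.Prime] [CharP k p]
  {K H R : Subgroup G} {f : G → k}

/-- `f` is multiplicative on `K`. -/
def MulOn {α : Type*} [MulOneClass α] (K : Subgroup G) (f : G → α) : Prop :=
  f 1 = 1 ∧ ∀ a ∈ K, ∀ b ∈ K, f (a * b) = f a * f b

/-- The idempotent of the linear character `f` of `K`. -/
noncomputable def twEl (K : Subgroup G) (f : G → k) : MonoidAlgebra k G :=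
  letI := Classical.decPred (· ∈ K)
  Blocks.ofFun fun g => if g ∈ K then (Nat.card K : k)⁻¹ * f g⁻¹ else 0

open Classical in
theorem coeff_twEl (K : Subgroup G) (f : G → k) (g : G) :
    (twEl K f).coeff g = if g ∈ K then (Nat.card K : k)⁻¹ * f g⁻¹ else 0 := by
  rw [twEl, Blocks.coeff_ofFun]

theorem twEl_congr {K' : Subgroup G} {f' : G → k} (hK : K = K') (hf : ∀ x ∈ K, f x = f' x) :
    twEl K f = twEl K' f' := by
  subst hK
  refine Blocks.alg_ext fun g => ?_
  rw [coeff_twEl, coeff_twEl]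
  split_ifs with hg
  · rw [hf _ (K.inv_mem hg)]
  · rfl

theorem conjEl_twEl (g : G) (K : Subgroup G) (f : G → k) :
    BrauerPairs.conjEl g (twEl K f) =
      twEl (K.map (MulAut.conj g).toMonoidHom) (fun x => f (g⁻¹ * x * g)) := by
  classical
  refine Blocks.alg_ext fun x => ?_
  rw [BrauerPairs.coeff_conjEl, coeff_twEl, coeff_twEl, BrauerPairs.card_map_conj]
  refine if_congr ⟨fun h => ⟨_, h, by simp [mul_assoc]⟩, ?_⟩ ?_ rfl
  · rintro ⟨y, hy, rfl⟩
    simpa [mul_assoc] using hy
  · congr 2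
    group

theorem twEl_mem_centerIn (hKH : K ≤ H) (hHK : H ≤ Subgroup.normalizer (K : Set G))
    (hinv : ∀ h ∈ H, ∀ x ∈ K, f (h * x * h⁻¹) = f x) : twEl K f ∈ BrauerPairs.centerIn k H := by
  classical
  refine ⟨fun x hx => ?_, BrauerPairs.mem_fixedBy_iff_coeff.2 fun h hh x => ?_⟩
  · rw [coeff_twEl, if_neg fun h => hx (hKH h)]
  · rw [coeff_twEl, coeff_twEl]
    by_cases hx : x ∈ K
    · rw [if_pos hx, if_pos (((Subgroup.mem_normalizer_iff.1 (hHK hh)) x).1 hx)]
      congr 1
      rw [show (h * x * h⁻¹)⁻¹ = h * x⁻¹ * h⁻¹ by group, hinv h hh _ (K.inv_mem hx)]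
    · rw [if_neg hx, if_neg fun h' => hx (((Subgroup.mem_normalizer_iff.1 (hHK hh)) x).2 h')]

theorem twEl_mem_fixedBy (hHK : H ≤ Subgroup.normalizer (K : Set G))
    (hinv : ∀ h ∈ H, ∀ x ∈ K, f (h * x * h⁻¹) = f x) : twEl K f ∈ BrauerPairs.fixedBy k H := by
  classical
  refine BrauerPairs.mem_fixedBy_iff_coeff.2 fun h hh x => ?_
  rw [coeff_twEl, coeff_twEl]
  by_cases hx : x ∈ K
  · rw [if_pos hx, if_pos (((Subgroup.mem_normalizer_iff.1 (hHK hh)) x).1 hx)]
    congr 1
    rw [show (h * x * h⁻¹)⁻¹ = h * x⁻¹ * h⁻¹ by group, hinv h hh _ (K.inv_mem hx)]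
  · rw [if_neg hx, if_neg fun h' => hx (((Subgroup.mem_normalizer_iff.1 (hHK hh)) x).2 h')]

theorem twEl_idem (hK : ¬ p ∣ Nat.card K) (hf : MulOn K f) : twEl K f * twEl K f = twEl K f := by
  classical
  letI := Fintype.ofFinite G
  refine Blocks.alg_ext fun g => ?_
  rw [Blocks.coeff_mul_eq_sum']
  have key : ∀ y : G, (twEl K f).coeff (g * y⁻¹) * (twEl K f).coeff y =
      if y ∈ K then (twEl K f).coeff g * (Nat.card K : k)⁻¹ else 0 := fun y => by
    rw [coeff_twEl, coeff_twEl, coeff_twEl]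
    by_cases hy : y ∈ K
    · rw [if_pos hy, if_pos hy]
      by_cases hg : g ∈ K
      · rw [if_pos (K.mul_mem hg (K.inv_mem hy)), if_pos hg, mul_inv_rev, inv_inv,
          hf.2 y hy _ (K.inv_mem hg)]
        have h1 : f y * f y⁻¹ = 1 := by rw [← hf.2 y hy _ (K.inv_mem hy), mul_inv_cancel, hf.1]
        linear_combination (Nat.card K : k)⁻¹ * (Nat.card K : k)⁻¹ * f g⁻¹ * h1
      · rw [if_neg fun h => hg (by simpa using K.mul_mem h hy), if_neg hg, zero_mul, zero_mul]
    · rw [if_neg hy, if_neg hy, mul_zero]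
  rw [Finset.sum_congr rfl fun y _ => key y, ← Finset.sum_filter, Finset.sum_const, nsmul_eq_mul,
    show (Finset.univ.filter (· ∈ K)).card = Nat.card K by
      rw [Nat.card_eq_fintype_card, Fintype.card_subtype], ← mul_assoc,
    mul_comm (Nat.card K : k), mul_assoc,
    mul_inv_cancel₀ (BrauerPairs.cast_card_ne_zero (k := k) hK), mul_one]

theorem twEl_ne_zero (hK : ¬ p ∣ Nat.card K) (hf : f 1 = 1) : twEl K f ≠ 0 := by
  classical
  intro h
  have h1 := congrArg (fun z : MonoidAlgebra k G => z.coeff 1) h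
  simp only [coeff_twEl, if_pos K.one_mem, inv_one, hf, mul_one, coeff_zero, Finsupp.zero_apply,
    inv_eq_zero] at h1
  exact BrauerPairs.cast_card_ne_zero (k := k) hK h1

theorem br_twEl (hR : IsPGroup p R) (hRK : R ≤ Subgroup.normalizer (K : Set G)) (f : G → k) :
    BrauerPairs.br R (twEl K f) =
      twEl (K ⊓ Subgroup.centralizer (R : Set G) : Subgroup G) f := by
  classical
  refine Blocks.alg_ext fun x => ?_
  rw [BrauerPairs.coeff_br, coeff_twEl, coeff_twEl, BrauerPairs.cast_card_inf_centralizer hR hRK]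
  by_cases hC : x ∈ Subgroup.centralizer (R : Set G) <;> by_cases hK : x ∈ K <;>
    simp [hC, hK, Subgroup.mem_inf]

/-- A central idempotent fixing the larger pair of a step fixes the smaller one. -/
theorem step_down {a b : Subgroup G × MonoidAlgebra k G} (h : BrauerPairs.Step p a b)
    {z : MonoidAlgebra k G}
    (hz : z ∈ BrauerPairs.centerIn k (Subgroup.centralizer (a.1 : Set G))) (hzz : z * z = z)
    (hzfix : z ∈ BrauerPairs.fixedBy k b.1) (hb : BrauerPairs.br b.1 z * b.2 = b.2) :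
    z * a.2 = a.2 := by
  obtain ⟨⟨-, ha⟩, ⟨hR, hbi⟩, -, -, hfix, hbr⟩ := h
  refine ha.mul_eq_self_of_ne hz hzz fun h0 => hbi.ne_zero ?_
  calc b.2 = BrauerPairs.br b.1 a.2 * b.2 := hbr.symm
    _ = BrauerPairs.br b.1 a.2 * (BrauerPairs.br b.1 z * b.2) := by rw [hb]
    _ = BrauerPairs.br b.1 (z * a.2) * b.2 := by
      rw [← mul_assoc, ← BrauerPairs.br_mul hR hfix hzfix,
        BrauerPairs.centerIn_commute ha.mem.1 hz.2]
    _ = 0 := by rw [h0, map_zero, zero_mul]

end Abstract

section Prelude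

variable {G : Type u} [Group G] [Finite G] {p : ℕ} [Fact p.Prime] {M : Ideal AlgInt} [M.IsMaximal]
  [CharP (AlgInt ⧸ M) p] {H K : Subgroup G} {θ : G → ℂ}

/-- A block is fixed by the idempotent of `θ` iff all members restrict to multiples of `θ`; otherwise
the `θ`-part of every translate of every member vanishes. -/
theorem blk_mul_twEl_cases (hpM : (p : AlgInt) ∈ M) (hKH : K ≤ H)
    (hHK : H ≤ Subgroup.normalizer (K : Set G)) (hK : ¬ p ∣ Nat.card K)
    (hmul : MulOn K θ) (hint : ∀ x ∈ K, MemLocalRing M (θ x))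
    (hinv : ∀ h ∈ H, ∀ x ∈ K, θ (h * x * h⁻¹) = θ x)
    {b : Set (IrrCharacter H)} (hb : IsPBlock M b) :
    (twEl K (fun x => Blocks.red M (θ x)) * BrauerPairs.blk M H b = BrauerPairs.blk M H b ∧
      ∀ η ∈ b, ∀ x h : H, (x : G) ∈ K → η.1 (x * h) = θ x * η.1 h) ∨
    (twEl K (fun x => Blocks.red M (θ x)) * BrauerPairs.blk M H b = 0 ∧
      ∀ η ∈ b, ∀ (t : Finset H), (∀ x : H, x ∈ t ↔ (x : G) ∈ K) →
        ∀ g : H, ∑ x ∈ t, θ (x⁻¹ : H) * η.1 (x * g) = 0) := by
  classical
  letI := Fintype.ofFinite H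
  set f : G → AlgInt ⧸ M := fun x => Blocks.red M (θ x)
  have hfmul : MulOn K f := ⟨by simp only [f, hmul.1, Blocks.red_one], fun a ha b hb => by
    simp only [f, hmul.2 a ha b hb, Blocks.red_mul (hint a ha) (hint b hb)]⟩
  set e : MonoidAlgebra ℂ H :=
    Blocks.ofFun fun h => if (h : G) ∈ K then (Nat.card K : ℂ)⁻¹ * θ (h⁻¹ : H) else 0 with he
  have hec : Blocks.IsCentralElt e := Blocks.isCentralElt_ofFun fun g h => by
    simp only [Subgroup.coe_mul, Subgroup.coe_inv]
    by_cases hg : (g : G) ∈ K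
    · rw [if_pos hg, if_pos (((Subgroup.mem_normalizer_iff.1 (hHK h.2)) (g : G)).1 hg),
        show ((h : G) * g * (h : G)⁻¹)⁻¹ = h * (g : G)⁻¹ * (h : G)⁻¹ by group,
        hinv _ h.2 _ (K.inv_mem hg)]
    · rw [if_neg hg, if_neg fun h' => hg (((Subgroup.mem_normalizer_iff.1 (hHK h.2)) (g : G)).2 h')]
  have heS : Blocks.SCoeff M e := Blocks.scoeff_ofFun fun h => by
    split_ifs with hh
    · exact Blocks.MemLocalRing.mul (Blocks.memLocalRing_inv_natCast hpM hK)
        (hint _ (by simpa using K.inv_mem hh))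
    · exact Blocks.memLocalRing_zero
  have hincl : BrauerPairs.incl H (AlgInt ⧸ M) (Blocks.redA M e) = twEl K f := by
    refine Blocks.alg_ext fun g => ?_
    rw [coeff_twEl]
    by_cases hg : g ∈ H
    · refine (BrauerPairs.coeff_incl_coe H _ (⟨g, hg⟩ : H)).trans ?_
      rw [Blocks.coeff_redA, he, Blocks.coeff_ofFun]
      split_ifs with h
      · rw [Subgroup.coe_inv, Blocks.red_mul (Blocks.memLocalRing_inv_natCast hpM hK)
          (hint _ (K.inv_mem h))]
        congr 1
        refine eq_inv_of_mul_eq_one_left ?_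
        rw [← Blocks.red_natCast (M := M), ← Blocks.red_mul (Blocks.memLocalRing_inv_natCast hpM hK)
          (Blocks.memLocalRing_natCast _), inv_mul_cancel₀ (Nat.cast_ne_zero.2 Nat.card_pos.ne'),
          Blocks.red_one]
      · exact Blocks.red_zero
    · rw [BrauerPairs.coeff_incl_of_notMem H _ hg, if_neg fun h => hg (hKH h)]
  have hcK : (Nat.card K : ℂ) ≠ 0 := Nat.cast_ne_zero.2 Nat.card_pos.ne'
  have hKc : (Finset.univ.filter fun h : H => (h : G) ∈ K).card = Nat.card K := by
    rw [← Fintype.card_subtype, ← Nat.card_eq_fintype_card]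
    exact Nat.card_congr
      { toFun := fun x => ⟨(x.1 : G), x.2⟩
        invFun := fun x => ⟨⟨x.1, hKH x.2⟩, x.2⟩
        left_inv := fun _ => rfl
        right_inv := fun _ => rfl }
  have hth : ∀ a ∈ K, θ a * θ a⁻¹ = 1 := fun a ha => by
    rw [← hmul.2 a ha _ (K.inv_mem ha), mul_inv_cancel, hmul.1]
  have hshift : ∀ n : H, (n : G) ∈ K →
      e * MonoidAlgebra.single n (1 : ℂ) = θ n • e := fun n hn => Blocks.alg_ext fun g => by
    rw [Blocks.coeff_mul_single', mul_one, MonoidAlgebra.coeff_smul_apply, he, Blocks.coeff_ofFun,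
      Blocks.coeff_ofFun, smul_eq_mul]
    simp only [Subgroup.coe_mul, Subgroup.coe_inv, mul_inv_rev, inv_inv]
    by_cases hg : (g : G) ∈ K
    · rw [if_pos (K.mul_mem hg (K.inv_mem hn)), if_pos hg, hmul.2 _ hn _ (K.inv_mem hg)]
      ring
    · rw [if_neg fun h => hg (by simpa using K.mul_mem h hn), if_neg hg, mul_zero]
  have hee : e * e = e := Blocks.alg_ext fun g => by
    rw [Blocks.coeff_mul_eq_sum']
    have key : ∀ y : H, e.coeff (g * y⁻¹) * e.coeff y =
        if (y : G) ∈ K then e.coeff g * (Nat.card K : ℂ)⁻¹ else 0 := fun y => by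
      by_cases hy : (y : G) ∈ K
      · rw [if_pos hy]
        have h2 := congrArg (fun z : MonoidAlgebra ℂ H => z.coeff g) (hshift y hy)
        simp only [Blocks.coeff_mul_single', mul_one, MonoidAlgebra.coeff_smul_apply, smul_eq_mul] at h2
        rw [h2, show e.coeff y = (Nat.card K : ℂ)⁻¹ * θ (y⁻¹ : H) by
          rw [he, Blocks.coeff_ofFun, if_pos hy], Subgroup.coe_inv]
        linear_combination e.coeff g * (Nat.card K : ℂ)⁻¹ * hth _ hy
      · rw [if_neg hy, show e.coeff y = 0 by rw [he, Blocks.coeff_ofFun, if_neg hy], mul_zero]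
    rw [Finset.sum_congr rfl fun y _ => key y, ← Finset.sum_filter, Finset.sum_const, hKc, nsmul_eq_mul]
    field_simp
  have hidem : twEl K f * twEl K f = twEl K f := twEl_idem (p := p) hK hfmul
  have hmem : twEl K f ∈ BrauerPairs.centerIn (AlgInt ⧸ M) H :=
    twEl_mem_centerIn hKH hHK fun h hh x hx => by simp only [f, hinv h hh x hx]
  have hbi := BrauerPairs.isBlockIdem_blk (M := M) H hb
  have hω : ∀ η ∈ b, BrauerPairs.omega (BrauerPairs.blk M H b) (twEl K f) =
      Blocks.red M (Blocks.omega η.1 e) := fun η hη => by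
    rw [← hincl, BrauerPairs.omega_blk H hb hη hec heS]
  have h01 : ∀ η : IrrCharacter H, Blocks.omega η.1 e = 0 ∨ Blocks.omega η.1 e = 1 := fun η => by
    have h2 := congrArg (Blocks.omega η.1) hee
    rw [Blocks.omega_mul η hec] at h2
    rcases eq_or_ne (Blocks.omega η.1 e) 0 with h0 | h0
    · exact Or.inl h0
    · exact Or.inr (mul_right_cancel₀ h0 (by rw [one_mul]; exact h2))
  rcases hbi.mul_eq_zero_or_self hmem hidem with h | h
  · refine Or.inr ⟨h, fun η hη t ht g => ?_⟩
    have h0 : Blocks.omega η.1 e = 0 := (h01 η).resolve_right fun h1 => by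
      have h2 := hω η hη
      rw [h1, Blocks.red_one, (hbi.omega_eq_zero_iff hmem).2 (by rw [h]; exact IsNilpotent.zero)] at h2
      exact zero_ne_one h2
    have h2 := congrArg ((Nat.card K : ℂ) * ·) (Blocks.chiL_mul_of_central η hec (MonoidAlgebra.single g 1))
    simp only [h0, zero_mul, mul_zero] at h2
    rw [Blocks.chiL_mul_single, Finset.mul_sum] at h2
    refine Eq.trans ?_ h2
    rw [← Finset.sum_subset (Finset.subset_univ t) fun x _ hx => by
      rw [he, Blocks.coeff_ofFun, if_neg fun h' => hx ((ht x).2 h'), zero_mul, mul_zero]]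
    refine Finset.sum_congr rfl fun x hx => ?_
    rw [he, Blocks.coeff_ofFun, if_pos ((ht x).1 hx)]
    field_simp
  · refine Or.inl ⟨h, fun η hη x y hx => ?_⟩
    have h1 : Blocks.omega η.1 e = 1 := (h01 η).resolve_left fun h0 => by
      have h2 := hω η hη
      rw [h0, Blocks.red_zero, (hbi.omega_eq_one_iff hmem hidem).2 h] at h2
      exact one_ne_zero h2
    have h2 := congrArg (fun z => Blocks.chiL η.1 (z * MonoidAlgebra.single y 1)) (hshift x hx)
    simp only [mul_assoc, MonoidAlgebra.single_mul_single, smul_mul_assoc, Blocks.chiL_smul,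
      Blocks.chiL_mul_of_central η hec, Blocks.chiL_single, h1, one_mul, mul_one] at h2
    exact h2

end Prelude

end Cfsg.Agent.GW.LinearFixed
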