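import Cfsg.Agent.Lib.GW.LinearFixed.Setting
import Cfsg.Agent.Lib.DihedralBlock.SignedDegrees
import Cfsg.Agent.Lib.ZStar.Step

/-!
# The column norm at `J`, the common fixed points, and the lower bound on the degrees
-/

set_option autoImplicit false
set_option linter.style.haveILetI false
set_option linter.unusedSectionVars false

namespace Cfsg.Agent.GW.LinearFixed

open Cfsg
open scoped ComplexConjugate

universe u

variable {G : Type u} [Group G] [Fintype G] {σ τ : G} {M₀ : ℕ} {d : DihedralBlock.Data σ τ M₀}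

/-- `C_V(σ, τ)`. -/
abbrev fixed (d : DihedralBlock.Data σ τ M₀) : Subgroup G :=
  d.V ⊓ Subgroup.centralizer ({σ} : Set G) ⊓ Subgroup.centralizer ({τ} : Set G)

theorem mem_fixed {y : G} : y ∈ fixed d ↔ y ∈ d.V ∧ Commute y σ ∧ Commute y τ := by
  rw [fixed, Subgroup.mem_inf, Subgroup.mem_inf, Subgroup.mem_centralizer_singleton_iff,
    Subgroup.mem_centralizer_singleton_iff, and_assoc]
  rfl

namespace Fix

variable (F : Fix d)

/-- A fixed point with nontrivial value, when the character is nontrivial. -/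
theorem exists_fixed_ne (hθ : F.θ ≠ 1) : ∃ y ∈ fixed d, F.th y ≠ 1 := by
  classical
  by_contra hall
  push Not at hall
  refine hθ (MonoidHom.ext fun v => ?_)
  rw [← F.th_coe, MonoidHom.one_apply]
  have step : ∀ (D : Subgroup G), D ≤ d.V → ∀ s : G, Commute (σ ^ M₀) s →
      (∀ x ∈ D, s * x * s⁻¹ ∈ D) → (∃ k, orderOf s ∣ 2 ^ k) →
      ∀ x ∈ D, ∃ c ∈ D, Commute c s ∧ F.th x = F.th c := by
    intro D hD s hsJ hs ⟨k, hk⟩ x hx
    set CD := D ⊓ Subgroup.centralizer ({s} : Set G) with hCDdef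
    haveI := Fintype.ofFinite D
    haveI := Fintype.ofFinite CD
    have hCD : ∀ c, c ∈ CD ↔ c ∈ D ∧ Commute c s := fun c => by
      rw [hCDdef, Subgroup.mem_inf, Subgroup.mem_centralizer_singleton_iff]
      exact Iff.rfl
    have hco : (Nat.card D).Coprime (orderOf s) :=
      ((Nat.coprime_two_right.2 (d.oddV.of_dvd_nat (Subgroup.card_dvd_of_le hD))).pow_right
        k).coprime_dvd_right hk
    obtain ⟨⟨w, c⟩, hwc⟩ := GlauCyclic.exists_conj_eq hs hco hCD ⟨x, hx⟩
    have h1 := GlauCyclic.coe_twist_mul hs (fun c hc => ((hCD c).1 hc).1) (w, c)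
    rw [hwc] at h1
    have hx' : x = (w : G) * c * (s * (w : G)⁻¹ * s⁻¹) := by
      calc x = x * s * s⁻¹ := by rw [mul_inv_cancel_right]
        _ = (w : G) * ((c : G) * s) * (w : G)⁻¹ * s⁻¹ := congrArg (· * s⁻¹) h1
        _ = _ := by group
    obtain ⟨hc1, hc2⟩ := (hCD c).1 c.2
    refine ⟨c, hc1, hc2, ?_⟩
    have hwi : s * (w : G)⁻¹ * s⁻¹ ∈ d.V := d.normV s hsJ _ (d.V.inv_mem (hD w.2))
    rw [hx', F.th_mul (mul_mem (hD w.2) (hD hc1)) hwi, F.th_mul (hD w.2) (hD hc1),
      F.th_conj hsJ (d.V.inv_mem (hD w.2)), mul_right_comm, ← F.th_mul (hD w.2) (d.V.inv_mem (hD w.2)),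
      mul_inv_cancel, th_one, one_mul]
  obtain ⟨k, hk⟩ := d.two_pow
  obtain ⟨c, hcV, hcσ, hvc⟩ := step d.V le_rfl σ (by simpa using d.commute_J_pow 1)
    (fun x hx => by simpa using d.norm_pow 1 hx) ⟨k, hk ▸ dvd_rfl⟩ v v.2
  obtain ⟨e, heD, heτ, hce⟩ := step (d.V ⊓ Subgroup.centralizer ({σ} : Set G)) inf_le_left τ
    d.commute_J_t (fun x hx => by
      obtain ⟨hxV, hxσ⟩ := Subgroup.mem_inf.1 hx
      refine Subgroup.mem_inf.2 ⟨d.normV τ d.commute_J_t x hxV, ?_⟩
      rw [Subgroup.mem_centralizer_singleton_iff] at hxσ ⊢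
      have hc : Commute (τ * x * τ⁻¹) (τ * σ * τ⁻¹) :=
        (show Commute x σ from hxσ).map (MulAut.conj τ)
      rw [d.inv] at hc
      exact (Commute.inv_right_iff.1 hc).eq)
    ⟨1, by rw [pow_one]; exact orderOf_dvd_of_pow_eq_one (by rw [pow_two, d.tsq])⟩ c
    (Subgroup.mem_inf.2 ⟨hcV, Subgroup.mem_centralizer_singleton_iff.2 hcσ.eq⟩)
  obtain ⟨heV, heσ⟩ := Subgroup.mem_inf.1 heD
  rw [hvc, hce]
  exact hall e (mem_fixed.2 ⟨heV, Subgroup.mem_centralizer_singleton_iff.1 heσ, heτ⟩)

/-- The column norm at `J`. -/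
theorem sum_avg_sq [Fintype d.V] :
    ∑ χ : IrrCharacter G, F.avg χ.1 M₀ * conj (F.avg χ.1 M₀) = 4 * (M₀ : ℂ) := by
  classical
  set J := σ ^ M₀ with hJ
  set o : ℂ := (Nat.card d.V : ℂ)
  have ho : o ≠ 0 := Char.card_ne_zero
  have hco : (Nat.card d.V).Coprime (orderOf J) := by
    rw [hJ, d.orderOf_J]; exact Nat.coprime_two_right.2 d.oddV
  obtain ⟨n, hn⟩ := GlauCyclic.mul_pow_eq_self hco
  have hpow : ∀ v ∈ d.V, (v * J) ^ n = J := fun v hv => hn v hv (d.commute_J hv).symm
  have horth : ∀ g h : G, ∑ χ : IrrCharacter G, χ.1 g * conj (χ.1 h) =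
      ((Finset.univ.filter fun x : G => x * h * x⁻¹ = g).card : ℂ) := fun g h => by
    rw [Char.sum_irr_mul_conj]
    split_ifs with hc
    · rw [d.card_conj_fiber h hc.symm]
    · rw [Finset.filter_eq_empty_iff.2 fun x _ hx => hc (isConj_iff.2 ⟨x, hx⟩).symm,
        Finset.card_empty, Nat.cast_zero]
  have hinner : ∀ v : d.V, ∑ w : d.V,
      conj (F.th w) * ((Finset.univ.filter fun x : G => x * ((v : G) * J) * x⁻¹ = (w : G) * J).card : ℂ) =
      (Nat.card (Subgroup.centralizer ({J} : Set G)) : ℂ) * conj (F.th v) := by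
    intro v
    have hC : ∀ x : G, x ∈ Subgroup.centralizer ({J} : Set G) ↔ Commute J x := fun x => by
      rw [Subgroup.mem_centralizer_singleton_iff]; exact ⟨Eq.symm, Eq.symm⟩
    simp only [Finset.card_filter, Nat.cast_sum, Finset.mul_sum]
    rw [Finset.sum_comm]
    have hterm : ∀ x : G, ∑ w : d.V,
        conj (F.th w) * ((if x * ((v : G) * J) * x⁻¹ = (w : G) * J then (1 : ℕ) else 0 : ℕ) : ℂ) =
        if Commute J x then conj (F.th v) else 0 := by
      intro x
      split_ifs with hx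
      · have hm := d.normV x hx v v.2
        have he : x * ((v : G) * J) * x⁻¹ = x * (v : G) * x⁻¹ * J := by
          calc x * ((v : G) * J) * x⁻¹ = x * (v : G) * (J * x⁻¹) := by group
            _ = x * (v : G) * (x⁻¹ * J) := by rw [hx.inv_right.eq]
            _ = _ := by group
        rw [Finset.sum_eq_single (⟨_, hm⟩ : d.V)]
        · rw [if_pos he, Nat.cast_one, mul_one, F.th_conj hx v.2]
        · intro w _ hw
          rw [if_neg, Nat.cast_zero, mul_zero]
          intro h
          rw [he] at h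
          exact hw (Subtype.ext (mul_right_cancel h).symm)
        · exact fun h => absurd (Finset.mem_univ _) h
      · refine Finset.sum_eq_zero fun w _ => ?_
        rw [if_neg, Nat.cast_zero, mul_zero]
        intro h
        refine hx ?_
        have h2 := congrArg (· ^ n) h
        simp only [conj_pow, hpow v v.2, hpow w w.2] at h2
        exact (mul_inv_eq_iff_eq_mul.1 h2).symm
    rw [Finset.sum_congr rfl fun x _ => hterm x, ← Finset.sum_filter, Finset.sum_const, nsmul_eq_mul]
    congr 2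
    rw [Nat.card_eq_fintype_card]
    exact (Fintype.card_of_subtype _ fun x => by simp [hC]).symm
  have hexp : ∀ χ : IrrCharacter G, F.avg χ.1 M₀ * conj (F.avg χ.1 M₀) =
      o⁻¹ * o⁻¹ * ∑ v : d.V, ∑ w : d.V,
        F.th v * (conj (F.th w) * (χ.1 ((w : G) * J) * conj (χ.1 ((v : G) * J)))) := fun χ => by
    rw [avg, map_mul, map_inv₀, map_sum, map_natCast]
    simp only [Finset.mul_sum, Finset.sum_mul]
    rw [Finset.sum_comm]
    refine Finset.sum_congr rfl fun v _ => Finset.sum_congr rfl fun w _ => ?_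
    rw [map_mul, Complex.conj_conj]
    ring
  simp only [hexp, ← Finset.mul_sum]
  rw [Finset.sum_comm]
  simp only [Finset.sum_comm (s := (Finset.univ : Finset (IrrCharacter G))), ← Finset.mul_sum, horth,
    hinner]
  rw [Finset.sum_congr rfl (g := fun _ => (Nat.card (Subgroup.centralizer ({J} : Set G)) : ℂ))
      (fun v _ => by
        rw [mul_left_comm, F.th_mul_conj v.2, mul_one]),
    Finset.sum_const, Finset.card_univ, nsmul_eq_mul, ← Nat.card_eq_fintype_card, hJ,
    d.card_centralizer_J]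
  push_cast [d.card_K]
  field_simp
  ring

end Fix

/-- A value `±1` or any odd integer at `J` forces odd degree. -/
theorem odd_degree (d : DihedralBlock.Data σ τ M₀) (χ : IrrCharacter G) {n : ℤ} (hn : Odd n)
    (hval : χ.1 (σ ^ M₀) = n) : Odd (charDegree χ.1) := by
  classical
  obtain ⟨m, μ, h1, hμ, hpow⟩ := CharInt.exists_roots (Char.irr_isCharacter χ) (σ ^ M₀)
  have hm : charDegree χ.1 = m := by
    have h : (charDegree χ.1 : ℂ) = m := by rw [Char.charDegree_cast, h1]
    exact_mod_cast h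
  have hsum := hpow 1
  simp only [pow_one] at hsum
  rw [hval, Finset.sum_congr rfl fun i _ => show μ i =
    (((1 : ℤ) - 2 * (if μ i = -1 then 1 else 0) : ℤ) : ℂ) from ?_, ← Int.cast_sum] at hsum
  · have h2 : n = ∑ i : Fin m, ((1 : ℤ) - 2 * (if μ i = -1 then 1 else 0)) := by exact_mod_cast hsum
    rw [Finset.sum_sub_distrib, ← Finset.mul_sum] at h2
    simp only [Finset.sum_const, Finset.card_univ, Fintype.card_fin, nsmul_eq_mul, mul_one] at h2
    rw [hm, Nat.odd_iff]
    rw [Int.odd_iff] at hn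
    omega
  · have h := hμ i
    rw [d.orderOf_J, sq_eq_one_iff] at h
    rcases h with h | h <;> rw [h] <;> norm_num

variable (P : Sylow 2 G) (hσ : σ ∈ (P : Subgroup G)) (hτ : τ ∈ (P : Subgroup G))
  (hform : ∀ x ∈ (P : Subgroup G), ∃ i : ℕ, x = σ ^ i ∨ x = σ ^ i * τ)

/-- The lower bound: a nontrivial character whose values at `s y` (`s ∈ S∖1`, `y` fixed by `S`)
are `χ(s) f(y)` has degree beyond the order of `S`, if odd. -/
theorem degree_bound [IsSimpleGroup G] (hG : ¬ IsMulCommutative G) (d : DihedralBlock.Data σ τ M₀)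
    (hσ : σ ∈ (P : Subgroup G)) (hτ : τ ∈ (P : Subgroup G))
    (hform : ∀ x ∈ (P : Subgroup G), ∃ i : ℕ, x = σ ^ i ∨ x = σ ^ i * τ)
    (hne : fixed d ≠ ⊥) (χ : IrrCharacter G) (hχ : χ ≠ Char.trivialChar G) (f : fixed d →* ℂ)
    (hodd : Odd (charDegree χ.1))
    (hval : ∀ s ∈ (P : Subgroup G), s ≠ 1 → ∀ y : fixed d, χ.1 (s * y) = χ.1 s * f y) :
    4 * M₀ + 1 ≤ charDegree χ.1 := by
  classical
  haveI := Fintype.ofFinite (P : Subgroup G)
  haveI := Fintype.ofFinite (fixed d)
  haveI := Fintype.ofFinite (⊥ : Subgroup G)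
  have hcomm : ∀ s ∈ (P : Subgroup G), ∀ y ∈ fixed d, Commute s y := by
    intro s hs y hy
    obtain ⟨-, hyσ, hyτ⟩ := mem_fixed.1 hy
    obtain ⟨i, rfl | rfl⟩ := hform s hs
    · exact (hyσ.pow_right i).symm
    · exact ((hyσ.pow_right i).mul_right hyτ).symm
  let Φ : ↥(P : Subgroup G) × fixed d →* G := MonoidHom.noncommCoprod (P : Subgroup G).subtype
    (fixed d).subtype fun s y => hcomm s s.2 y y.2
  obtain ⟨b, hb⟩ := Char.IsCharacter.exists_nat_classInner
    (Char.IsCharacter.comp (Char.irr_isCharacter χ) Φ)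
    (Char.irr_isCharacter (Char.linIrr (f.comp (MonoidHom.snd (P : Subgroup G) (fixed d)))))
  obtain ⟨a, ha⟩ := Char.IsCharacter.exists_nat_classInner
    (Char.IsCharacter.restrict (Char.irr_isCharacter χ) (P : Subgroup G))
    (Char.isCharacter_one (G := (P : Subgroup G)))
  obtain ⟨m, hm⟩ := Char.IsCharacter.exists_nat_classInner
    (Char.IsCharacter.restrict (Char.irr_isCharacter χ) (fixed d))
    (Char.irr_isCharacter (Char.linIrr f))
  set x := charDegree χ.1 with hx
  set R : ℂ := ∑ s ∈ Finset.univ.erase (1 : (P : Subgroup G)), χ.1 s with hR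
  have hP : Nat.card (P : Subgroup G) = 4 * M₀ := d.card_sylow P hσ hτ hform
  have he : (Nat.card (fixed d) : ℂ) ≠ 0 := Nat.cast_ne_zero.2 Nat.card_pos.ne'
  have hM0 : (M₀ : ℂ) ≠ 0 := Nat.cast_ne_zero.2 d.hM0.ne'
  have hf : ∀ y, f y * conj (f y) = 1 := fun y => Char.normSq_linear f y
  have hm' : ∑ y : fixed d, χ.1 y * conj (f y) = (m : ℂ) * Nat.card (fixed d) := by
    rw [classInner, inv_mul_eq_iff_eq_mul₀ he] at hm
    simp only [Char.linIrr_apply] at hm
    rw [hm, mul_comm]
  have ha' : (x : ℂ) + R = (a : ℂ) * (4 * M₀) := by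
    rw [classInner, hP] at ha
    simp only [map_one, mul_one] at ha
    rw [← Finset.add_sum_erase _ _ (Finset.mem_univ (1 : (P : Subgroup G))), ← hR, Subgroup.coe_one,
      ← Char.charDegree_cast, ← hx] at ha
    push_cast at ha
    field_simp at ha
    linear_combination ha
  have hb' : (m : ℂ) + R = (b : ℂ) * (4 * M₀) := by
    rw [classInner, Nat.card_prod, hP, Fintype.sum_prod_type,
      ← Finset.add_sum_erase _ _ (Finset.mem_univ (1 : (P : Subgroup G))),
      Finset.sum_congr rfl (g := fun s : (P : Subgroup G) => χ.1 s * Nat.card (fixed d)) (fun s hs => ?_),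
      ← Finset.sum_mul, ← hR] at hb
    · have h1 : ∑ y : fixed d, χ.1 (Φ (1, y)) *
          conj ((Char.linIrr (f.comp (MonoidHom.snd (P : Subgroup G) (fixed d)))).1 (1, y)) =
          (m : ℂ) * Nat.card (fixed d) := by
        rw [← hm']
        refine Finset.sum_congr rfl fun y _ => ?_
        show χ.1 ((1 : G) * y) * conj (f y) = _
        rw [one_mul]
      rw [h1] at hb
      push_cast at hb
      field_simp at hb
      linear_combination hb
    · have hs1 : (s : G) ≠ 1 := fun h => Finset.ne_of_mem_erase hs (Subtype.ext h)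
      rw [Finset.sum_congr rfl (g := fun _ => χ.1 s) (fun y _ => ?_), Finset.sum_const,
        Finset.card_univ, nsmul_eq_mul, ← Nat.card_eq_fintype_card, mul_comm]
      show χ.1 ((s : G) * y) * conj (f y) = χ.1 s
      rw [hval s s.2 hs1 y, mul_assoc, hf, mul_one]
  have hdiff : (x : ℤ) - m = 4 * (M₀ : ℤ) * ((a : ℤ) - b) := by
    have : (((x : ℤ) - m : ℤ) : ℂ) = ((4 * (M₀ : ℤ) * ((a : ℤ) - b) : ℤ) : ℂ) := by
      push_cast
      linear_combination ha' - hb'
    exact_mod_cast this
  -- the sum against `f` is at most the degree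
  have hle : ∀ y : fixed d, (χ.1 y * conj (f y)).re ≤ x := fun y => by
    refine (Complex.re_le_norm _).trans ?_
    have h1 : ‖conj (f y)‖ = 1 := by
      have h := congrArg (‖·‖) (hf y)
      simp only [norm_mul, Complex.norm_conj, norm_one] at h
      rw [Complex.norm_conj]
      nlinarith [norm_nonneg (f y)]
    rw [norm_mul, h1, mul_one]
    refine (CharInt.norm_char_le (Char.irr_isCharacter χ) _).trans ?_
    rw [← Char.charDegree_cast, Complex.norm_natCast]
  have hre : ∑ y : fixed d, (χ.1 y * conj (f y)).re = (m : ℝ) * Nat.card (fixed d) := by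
    have h := congrArg Complex.re hm'
    simpa using h
  have hmle : m ≤ x := by
    have h := Finset.sum_le_sum fun y (_ : y ∈ Finset.univ) => hle y
    rw [hre, Finset.sum_const, Finset.card_univ, nsmul_eq_mul, ← Nat.card_eq_fintype_card] at h
    have he0 : (0 : ℝ) < Nat.card (fixed d) := Nat.cast_pos.2 Nat.card_pos
    have : (m : ℝ) ≤ x := le_of_mul_le_mul_right (h.trans_eq (mul_comm _ _)) he0
    exact_mod_cast this
  have hlt : m ≠ x := by
    intro hmx
    have heach := (Finset.sum_eq_sum_iff_of_le fun y (_ : y ∈ Finset.univ) => hle y).1 (by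
      rw [hre, Finset.sum_const, Finset.card_univ, nsmul_eq_mul, ← Nat.card_eq_fintype_card, hmx,
        mul_comm])
    obtain ⟨y, hy, hy1⟩ : ∃ y ∈ fixed d, y ≠ 1 := by
      rw [Ne, Subgroup.eq_bot_iff_forall] at hne
      push Not at hne
      exact hne
    have hy' := heach ⟨y, hy⟩ (Finset.mem_univ _)
    have hnorm : ‖χ.1 y‖ = ‖χ.1 1‖ := by
      refine le_antisymm (CharInt.norm_char_le (Char.irr_isCharacter χ) _) ?_
      rw [← Char.charDegree_cast, Complex.norm_natCast, ← hx, ← hy']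
      refine (Complex.re_le_norm _).trans_eq ?_
      have h1 : ‖f ⟨y, hy⟩‖ = 1 := by
        have h := congrArg (‖·‖) (hf ⟨y, hy⟩)
        simp only [norm_mul, Complex.norm_conj, norm_one] at h
        nlinarith [norm_nonneg (f ⟨y, hy⟩)]
      rw [norm_mul, Complex.norm_conj, h1, mul_one]
    obtain ⟨k, ρ, hρ, hρχ⟩ := χ.2
    rw [← hρχ] at hnorm
    obtain ⟨c, hc⟩ := (CharInt.norm_eq_iff_scalar ρ y).1 hnorm
    have hinj : Function.Injective ρ := by
      rcases ρ.normal_ker.eq_bot_or_eq_top with h | h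
      · exact (MonoidHom.ker_eq_bot_iff _).1 h
      · exfalso
        refine hχ (ZStar.eq_trivialChar_of_const fun g => ?_)
        have hg : ρ g = 1 := ρ.mem_ker.1 (h ▸ Subgroup.mem_top g)
        rw [← hρχ, Representation.character, Representation.character, hg, map_one ρ]
    have hcen : y ∈ Subgroup.center G := Subgroup.mem_center_iff.2 fun g => hinj (by
      rw [map_mul, map_mul, hc, mul_smul_comm, smul_mul_assoc, one_mul, mul_one])
    rcases (inferInstance : (Subgroup.center G).Normal).eq_bot_or_eq_top with h | h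
    · exact hy1 ((Subgroup.eq_bot_iff_forall _).1 h y hcen)
    · exact hG (isMulCommutative_iff.2 fun a b =>
        (Subgroup.mem_center_iff.1 (h ▸ Subgroup.mem_top b) a))
  have hM := d.hM0
  rw [Nat.odd_iff] at hodd
  have hpos : 0 < (a : ℤ) - b := by
    by_contra h
    push Not at h
    have h2 : (4 * (M₀ : ℤ)) * ((a : ℤ) - b) ≤ 0 := mul_nonpos_of_nonneg_of_nonpos (by positivity) h
    omega
  have h4 : 4 * (M₀ : ℤ) ≤ (x : ℤ) - m := by
    rw [hdiff]; exact le_mul_of_one_le_right (by positivity) hpos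
  omega

end Cfsg.Agent.GW.LinearFixed
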