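import Cfsg.Agent.Lib.GW.LinearFixed.Bounds
import Cfsg.Agent.Lib.ZStar.Assemble
import Cfsg.Agent.Lib.Blocks.ThirdMain

/-!
# No nontrivial linear character of the core is fixed by `C(J)`

The class structure of two involutions with product a rotation, read against the principal block
and against the twisted family, gives incompatible bounds.
-/

set_option autoImplicit false
set_option linter.style.haveILetI false
set_option linter.unusedSectionVars false
set_option maxHeartbeats 1600000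

namespace Cfsg.Agent.GW.LinearFixed

open Cfsg
open scoped ComplexConjugate

universe u

variable {G : Type u} [Group G] [Fintype G] {σ τ : G} {M₀ : ℕ} {d : DihedralBlock.Data σ τ M₀}

theorem sum_indFun_eq (d : DihedralBlock.Data σ τ M₀) [Fintype d.K] (w : d.K → ℂ) :
    (Nat.card G : ℂ) * ∑ χ : IrrCharacter G,
        χ.1 (σ ^ M₀) * χ.1 (σ ^ M₀) * classInner (indFun d.K w) χ.1 / χ.1 1 =
      (Nat.card d.K : ℂ)⁻¹ * ∑ k : d.K, w k * (Nat.card {p : G × G //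
        p.1 * σ ^ M₀ * p.1⁻¹ * (p.2 * σ ^ M₀ * p.2⁻¹) = (k : G)} : ℂ) := by
  classical
  simp only [Char.card_conj_mul_conj_eq]
  rw [Finset.mul_sum, Finset.mul_sum]
  simp only [Finset.mul_sum]
  rw [Finset.sum_comm]
  refine Finset.sum_congr rfl fun χ _ => ?_
  rw [Char.classInner_indFun d.K w (Char.IsCharacter.isClassFunction (Char.irr_isCharacter χ)),
    classInner, Finset.mul_sum, Finset.mul_sum, Finset.sum_div, Finset.mul_sum]
  refine Finset.sum_congr rfl fun k _ => ?_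
  rw [Char.IsCharacter.conj_apply (Char.irr_isCharacter χ)]
  ring

theorem mem_core_of_rot (d : DihedralBlock.Data σ τ M₀) {i : ℕ} (hi : σ ^ i ≠ 1) {y : G}
    (hy : y ∈ d.V) (hcy : Commute y (σ ^ i)) : y ∈ centralizerPPrimeCore 2 (σ ^ i) := by
  obtain ⟨e, he⟩ := d.exists_pow_eq_J d.V.one_mem hi
  rw [one_mul] at he
  set C := Subgroup.centralizer ({σ ^ i} : Set G) with hC
  set N : Subgroup C := d.V.subgroupOf C with hN
  haveI : N.Normal := ⟨fun n hn c => by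
    rw [hN, Subgroup.mem_subgroupOf] at hn ⊢
    rw [Subgroup.coe_mul, Subgroup.coe_mul, Subgroup.coe_inv]
    refine d.normV _ ?_ _ hn
    rw [← he]
    exact (show Commute (σ ^ i) (c : G) from
      (Subgroup.mem_centralizer_singleton_iff.1 c.2).symm).pow_left e⟩
  have hcop : (Nat.card N).Coprime 2 := by
    refine Nat.coprime_two_right.2 (d.oddV.of_dvd_nat ?_)
    rw [hN, Subgroup.subgroupOf, ← Subgroup.card_map_of_injective C.subtype_injective]
    exact Subgroup.card_dvd_of_le (Subgroup.map_comap_le _ _)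
  exact Subgroup.mem_map.2 ⟨⟨y, Subgroup.mem_centralizer_singleton_iff.2 hcy.eq⟩,
    PCore.le_pPrimeCore hcop (Subgroup.mem_subgroupOf.2 hy), rfl⟩

namespace Fix

variable (F : Fix d)

/-- The trivial character, with the same three-cycles. -/
def triv : Fix d where
  θ := 1
  inv _ _ _ _ _ := rfl
  hr q hq := by
    obtain ⟨r, h1, h2, -⟩ := F.hr q hq
    exact ⟨r, h1, h2, fun _ _ _ _ => rfl⟩

/-- From the rotations to the whole Sylow subgroup. -/
theorem apply_fixed (P : Sylow 2 G)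
    (hform : ∀ x ∈ (P : Subgroup G), ∃ i : ℕ, x = σ ^ i ∨ x = σ ^ i * τ) (χ : IrrCharacter G)
    (hrot : ∀ i : ℕ, 0 < i → i < 2 * M₀ → ∀ v : d.V, Commute (v : G) (σ ^ i) →
      χ.1 (σ ^ i * v) = χ.1 (σ ^ i) * F.θ v) :
    ∀ s ∈ (P : Subgroup G), s ≠ 1 → ∀ y : fixed d,
      χ.1 (s * y) = χ.1 s * F.θ ⟨y, (mem_fixed.1 y.2).1⟩ := by
  intro s hs hs1 y
  obtain ⟨hyV, hyσ, hyτ⟩ := mem_fixed.1 y.2
  have hcl := Blocks.irr_classFun χ
  have hpos : 0 < 2 * M₀ := by have := d.hM0; omega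
  obtain ⟨i, rfl | rfl⟩ := hform s hs
  · have hmod : σ ^ (i % (2 * M₀)) = σ ^ i := by rw [← d.hord, pow_mod_orderOf]
    have h := hrot (i % (2 * M₀)) (Nat.pos_of_ne_zero fun h0 => hs1 (by rw [← hmod, h0, pow_zero]))
      (Nat.mod_lt _ hpos) ⟨y, hyV⟩ (hyσ.pow_right _)
    rwa [hmod] at h
  obtain ⟨k, e, he, rfl⟩ : ∃ k e, e < 2 ∧ i = 2 * k + e := ⟨i / 2, i % 2, by omega, by omega⟩
  have hse : σ ^ (2 * k + e) * τ = σ ^ k * (σ ^ e * τ) * (σ ^ k)⁻¹ := by
    rw [eq_mul_inv_iff_mul_eq, mul_assoc, d.t_mul_pow, ← mul_assoc, ← mul_assoc,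
      two_mul, add_right_comm, pow_add, pow_add]
    group
  obtain ⟨r, hr1, -, hr3⟩ := F.hr (σ ^ e * τ) (by
    interval_cases e
    · exact Or.inl (by rw [pow_zero, one_mul])
    · exact Or.inr (by rw [pow_one]))
  have hyq : Commute (σ ^ e * τ) (y : G) := ((hyσ.pow_right e).mul_right hyτ).symm
  set w := r⁻¹ * (y : G) * r with hw
  have hwJ : Commute (σ ^ M₀) w := by
    have h := hyq.map (MulAut.conj r⁻¹)
    simp only [MulAut.conj_apply, inv_inv] at h
    have e1 : r⁻¹ * (σ ^ e * τ) * r = σ ^ M₀ := by rw [← hr1]; group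
    rwa [e1, ← hw] at h
  have hwV : w ∈ d.V := (d.mem_V w).2 ⟨hwJ, by
    have h : orderOf w = orderOf (y : G) := by
      rw [hw]; simpa using MulEquiv.orderOf_eq (MulAut.conj r⁻¹) (y : G)
    rw [h]; exact d.odd_of_mem hyV⟩
  have h1 : χ.1 (σ ^ (2 * k + e) * τ * (y : G)) = χ.1 (σ ^ M₀ * w) := by
    have : σ ^ (2 * k + e) * τ * (y : G) =
        σ ^ k * r * (σ ^ M₀ * w) * (σ ^ k * r)⁻¹ := by
      have hy' : (σ ^ k)⁻¹ * (y : G) = (y : G) * (σ ^ k)⁻¹ :=
        ((hyσ.pow_right k).inv_right).symm.eq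
      rw [hse, mul_assoc _ (σ ^ k)⁻¹, hy', hw, ← hr1]
      group
    rw [this, hcl]
  have h2 : χ.1 (σ ^ (2 * k + e) * τ) = χ.1 (σ ^ M₀) := by
    have : σ ^ (2 * k + e) * τ = σ ^ k * r * σ ^ M₀ * (σ ^ k * r)⁻¹ := by
      rw [hse, ← hr1]; group
    rw [this, hcl]
  rw [h1, h2, hrot M₀ d.hM0 (by have := d.hM0; omega) ⟨w, hwV⟩ hwJ.symm,
    hr3 ⟨y, hyV⟩ ⟨w, hwV⟩ hyq rfl]

/-- The twisted weights agree with the sign wherever two involutions multiply into the rotations. -/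
theorem wtT_mul_pairs (k : d.K) :
    F.wtT M₀ k * (Nat.card {p : G × G //
        p.1 * σ ^ M₀ * p.1⁻¹ * (p.2 * σ ^ M₀ * p.2⁻¹) = (k : G)} : ℂ) =
      d.sgnWt k * (Nat.card {p : G × G //
        p.1 * σ ^ M₀ * p.1⁻¹ * (p.2 * σ ^ M₀ * p.2⁻¹) = (k : G)} : ℂ) := by
  rw [show F.wtT M₀ k = F.thK k * d.sgnWt k from rfl]
  rcases eq_or_ne (d.sgnWt k) 0 with h0 | h0
  · rw [h0, mul_zero]
  rcases isEmpty_or_nonempty {p : G × G //
      p.1 * σ ^ M₀ * p.1⁻¹ * (p.2 * σ ^ M₀ * p.2⁻¹) = (k : G)} with hE | ⟨⟨⟨a, b⟩, hab⟩⟩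
  · rw [Nat.card_of_isEmpty, Nat.cast_zero, mul_zero, mul_zero]
  obtain ⟨p, q, hp, hq⟩ := d.exists_outer_of_sgn_ne_zero (s := a * σ ^ M₀ * a⁻¹)
    (t := b * σ ^ M₀ * b⁻¹) (isConj_iff.2 ⟨a, rfl⟩) (isConj_iff.2 ⟨b, rfl⟩)
    (by rw [hab, Char.extendByZero_coe]; exact h0)
  have hth : ∀ p : d.Outer, F.th p.2.1 = 1 := fun p =>
    F.th_eq_one_of_invol p.2.1.2 ((d.commute_J_pow _).mul_right d.commute_J_t)
      d.mul_tau_sq (d.outerElt_sq p)
  obtain ⟨m, hm⟩ := d.exists_pow_inv (q.1 : ℕ)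
  have hc : Commute (σ ^ M₀) (σ ^ (p.1 : ℕ) * τ) := (d.commute_J_pow _).mul_right d.commute_J_t
  have hw := d.normV _ hc _ q.2.1.2
  have e : (k : G) = (p.2.1 : G) * (σ ^ (p.1 : ℕ) * τ * (q.2.1 : G) * (σ ^ (p.1 : ℕ) * τ)⁻¹) *
        σ ^ ((p.1 : ℕ) + m) := by
    rw [← hab]
    dsimp only
    rw [← hp, ← hq, pow_add, hm]
    calc d.outerElt p * d.outerElt q
        = (p.2.1 : G) * (σ ^ (p.1 : ℕ) * τ * (q.2.1 : G) * (σ ^ (p.1 : ℕ) * τ)⁻¹) *
            (σ ^ (p.1 : ℕ) * (τ * σ ^ (q.1 : ℕ) * τ)) := by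
          simp only [DihedralBlock.Core.outerElt]; group
      _ = _ := by rw [d.t_mul_pow, mul_assoc (σ ^ (q.1 : ℕ))⁻¹, d.tsq, mul_one]
  rw [F.thK_apply (mul_mem p.2.1.2 hw) e, F.th_mul p.2.1.2 hw, F.th_conj hc q.2.1.2, hth, hth,
    one_mul, one_mul]

/-- Two readings of the same class structure. -/
theorem sum_twisted_eq :
    ∑ χ : IrrCharacter G, χ.1 (σ ^ M₀) * χ.1 (σ ^ M₀) * classInner (F.PsiT M₀) χ.1 / χ.1 1 =
      ∑ χ : IrrCharacter G, χ.1 (σ ^ M₀) * χ.1 (σ ^ M₀) * classInner d.SgnPsi χ.1 / χ.1 1 := by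
  haveI := Fintype.ofFinite d.K
  refine mul_left_cancel₀ (Char.card_ne_zero (G := G)) ?_
  rw [PsiT, DihedralBlock.Core.SgnPsi, DihedralBlock.Core.Psi, sum_indFun_eq, sum_indFun_eq]
  exact congrArg _ (Finset.sum_congr rfl fun k _ => F.wtT_mul_pairs k)

end Fix

variable (P : Sylow 2 G) (hσ : σ ∈ (P : Subgroup G)) (hτ : τ ∈ (P : Subgroup G))
  (hform : ∀ x ∈ (P : Subgroup G), ∃ i : ℕ, x = σ ^ i ∨ x = σ ^ i * τ)
include hσ hτ hform

/-- The principal block keeps the common sum near `1`. -/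
theorem sgn_sum_ge [IsSimpleGroup G] (hG : ¬ IsMulCommutative G) (F : Fix d)
    (hne : fixed d ≠ ⊥) :
    ∃ T : ℝ, (∑ χ : IrrCharacter G,
        χ.1 (σ ^ M₀) * χ.1 (σ ^ M₀) * classInner d.SgnPsi χ.1 / χ.1 1 = T) ∧
      1 - 3 / (4 * (M₀ : ℝ) + 1) ≤ T := by
  classical
  obtain ⟨M, hM⟩ := ZStar.exists_isPModular_two
  haveI : Fact (Nat.Prime 2) := ⟨Nat.prime_two⟩
  haveI := hM.2.1
  obtain ⟨χ₁, χ₂, χ₃, δ₁, δ₂, δ₃, h1, h2, h3, m1, m2, m3, n1, n2, n3, n12, n13, n23, hval, -⟩ :=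
    d.sign_formula P hσ hτ hform hM
  obtain ⟨m, hm, hinner⟩ := Char.IsGeneralizedCharacter.exists_decomp
    (d.isGeneralized_Psi d.isPrimitiveRoot_zeta M₀)
  have hMlt : M₀ < 2 * M₀ := by have := d.hM0; omega
  have hEven : ((-1 : ℂ) ^ (M₀ + 1)) = -1 := by rw [pow_succ, Even.neg_one_pow d.hM, one_mul]
  have hodd : ∀ {l : ℕ}, l % 2 = 1 → ((-1 : ℂ) ^ (l + 1)) = 1 := fun {l} hl => by
    rw [Even.neg_one_pow (Nat.even_iff.2 (by omega))]
  have hmem : ∀ χ : IrrCharacter G, χ ∈ principalBlock M G → ∀ δ : ℤ,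
      (∀ l : ℕ, 0 < l → l < 2 * M₀ → l % 2 = 1 → χ.1 (σ ^ l) = δ) → m χ = δ := by
    intro χ hχ δ hv
    have h := d.classInner_SgnPsi_principal hM hχ δ hv
    rw [DihedralBlock.Core.SgnPsi, hinner] at h
    exact_mod_cast h
  have hmt : m (Char.trivialChar G) = 1 :=
    hmem _ (Blocks.sameBlock_refl _) 1 fun l _ _ _ => by simp
  have key : ∀ χ : IrrCharacter G, χ ∈ principalBlock M G → χ ≠ Char.trivialChar G →
      ∀ ε : ℤ, (ε = 1 ∨ ε = -1) → χ.1 (σ ^ M₀) = ε →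
        χ.1 (σ ^ M₀) * χ.1 (σ ^ M₀) = 1 ∧ (4 * (M₀ : ℝ) + 1) ≤ charDegree χ.1 := by
    intro χ hχ hne' ε hε hJ
    refine ⟨by rcases hε with rfl | rfl <;> rw [hJ] <;> norm_num, ?_⟩
    have hrot : ∀ i : ℕ, 0 < i → i < 2 * M₀ → ∀ v : d.V, Commute (v : G) (σ ^ i) →
        χ.1 (σ ^ i * v) = χ.1 (σ ^ i) * F.triv.θ v := by
      intro i h0 hi v hv
      have hne1 := d.pow_ne_one d.isPrimitiveRoot_zeta h0 hi
      obtain ⟨k, hk⟩ := d.two_pow
      obtain ⟨s, -, hs⟩ := (Nat.dvd_prime_pow Nat.prime_two).1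
        (hk ▸ orderOf_pow_dvd (x := σ) i : orderOf (σ ^ i) ∣ 2 ^ k)
      rw [Blocks.principal_apply_mul_core hM.2.2 ⟨s, hs⟩ (mem_core_of_rot d hne1 v.2 hv) hχ]
      exact (mul_one _).symm
    have h := degree_bound P hG d hσ hτ hform hne χ hne'
      (F.triv.θ.comp (Subgroup.inclusion fun y hy => (mem_fixed.1 hy).1))
      (odd_degree d χ (by rcases hε with rfl | rfl <;> decide) hJ)
      (F.triv.apply_fixed P hform χ hrot)
    exact_mod_cast h
  have hp1 := key χ₁ m1 n1 δ₁ h1 (hval M₀ d.hM0 hMlt).1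
  have hp2 := key χ₂ m2 n2 (-δ₂) (by rcases h2 with rfl | rfl <;> simp)
    (by rw [(hval M₀ d.hM0 hMlt).2.1, hEven]; push_cast; ring)
  have hp3 := key χ₃ m3 n3 (-δ₃) (by rcases h3 with rfl | rfl <;> simp)
    (by rw [(hval M₀ d.hM0 hMlt).2.2, hEven]; push_cast; ring)
  have hm1 : m χ₁ = δ₁ := hmem _ m1 _ fun l h0 hl _ => (hval l h0 hl).1
  have hm2 : m χ₂ = δ₂ := hmem _ m2 _
    fun l h0 hl ho => by rw [(hval l h0 hl).2.1, hodd ho, mul_one]
  have hm3 : m χ₃ = δ₃ := hmem _ m3 _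
    fun l h0 hl ho => by rw [(hval l h0 hl).2.2, hodd ho, mul_one]
  set T4 : Finset (IrrCharacter G) := {Char.trivialChar G, χ₁, χ₂, χ₃} with hT
  have hsumT : ∀ {R : Type} [AddCommMonoid R] (f : IrrCharacter G → R), ∑ χ ∈ T4, f χ =
      f (Char.trivialChar G) + (f χ₁ + (f χ₂ + f χ₃)) := by
    intro R _ f
    rw [hT, Finset.sum_insert (by simp [n1.symm, n2.symm, n3.symm]),
      Finset.sum_insert (by simp [n12, n13]), Finset.sum_pair n23]
  have hnorm : ∑ χ, m χ ^ 2 = 4 := by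
    have h := Char.IsGeneralizedCharacter.classInner_self_eq_sum hm
    rw [d.classInner_Psi_Psi d.isPrimitiveRoot_zeta d.hM0 le_rfl d.hM0 le_rfl, if_pos rfl,
      if_pos rfl] at h
    exact_mod_cast h.symm
  have hz : ∀ χ, χ ∉ T4 → m χ = 0 := by
    have hsq : ∀ e : ℤ, (e = 1 ∨ e = -1) → e ^ 2 = 1 := by rintro e (rfl | rfl) <;> norm_num
    have hTsum : ∑ χ ∈ T4, m χ ^ 2 = 4 := by
      rw [hsumT, hmt, hm1, hm2, hm3, hsq _ h1, hsq _ h2, hsq _ h3]
      norm_num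
    intro χ hχ
    have h := Finset.sum_sdiff (s₁ := T4) (s₂ := Finset.univ) (f := fun χ => m χ ^ 2)
      (Finset.subset_univ T4)
    rw [hTsum, hnorm] at h
    have h0 : ∑ χ ∈ Finset.univ \ T4, m χ ^ 2 = 0 := by linarith
    exact sq_eq_zero_iff.1 ((Finset.sum_eq_zero_iff_of_nonneg fun x _ => sq_nonneg _).1 h0 χ
      (Finset.mem_sdiff.2 ⟨Finset.mem_univ _, hχ⟩))
  refine ⟨∑ χ : IrrCharacter G, (m χ : ℝ) / charDegree χ.1, ?_, ?_⟩
  · rw [Complex.ofReal_sum]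
    refine Finset.sum_congr rfl fun χ _ => ?_
    rw [DihedralBlock.Core.SgnPsi, hinner χ]
    push_cast
    rw [Char.charDegree_cast]
    by_cases hχ : χ ∈ T4
    · have hsq : χ.1 (σ ^ M₀) * χ.1 (σ ^ M₀) = 1 := by
        simp only [hT, Finset.mem_insert, Finset.mem_singleton] at hχ
        rcases hχ with rfl | rfl | rfl | rfl
        · simp
        · exact hp1.1
        · exact hp2.1
        · exact hp3.1
      rw [hsq, one_mul]
    · rw [hz χ hχ, Int.cast_zero, mul_zero, zero_div]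
  · have hdt : charDegree (Char.trivialChar G).1 = 1 := Nat.cast_injective (R := ℂ)
      (by rw [Char.charDegree_cast, Char.trivialChar_apply, Nat.cast_one])
    rw [← Finset.sum_subset (Finset.subset_univ T4) fun χ _ hχ => by
      rw [hz χ hχ, Int.cast_zero, zero_div], hsumT, hmt, hdt, hm1, hm2, hm3]
    have hb : ∀ (e : ℤ) (x : ℕ), (e = 1 ∨ e = -1) → (4 * (M₀ : ℝ) + 1) ≤ x →
        -(1 / (4 * (M₀ : ℝ) + 1)) ≤ (e : ℝ) / x := by
      intro e x he hx
      have h1 : (0 : ℝ) < 4 * M₀ + 1 := by positivity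
      have h2 : (1 : ℝ) / x ≤ 1 / (4 * M₀ + 1) := one_div_le_one_div_of_le h1 hx
      rcases he with rfl | rfl
      · exact le_trans (neg_nonpos.2 (by positivity)) (by push_cast; positivity)
      · push_cast; rw [neg_div]; linarith
    have := hb _ _ h1 hp1.2
    have := hb _ _ h2 hp2.2
    have := hb _ _ h3 hp3.2
    rw [show (3 : ℝ) / (4 * M₀ + 1) = 3 * (1 / (4 * (M₀ : ℝ) + 1)) by ring]
    push_cast
    linarith

/-- **Section B**: a nontrivial linear character of the core fixed by `C(J)`, satisfying the value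
relations on the rotations, cannot exist. -/
theorem false_of_fixed [IsSimpleGroup G] (hG : ¬ IsMulCommutative G) [Fintype d.V] (F : Fix d)
    (hθ : F.θ ≠ 1)
    (Hval : ∀ χ : IrrCharacter G, (∑ v : d.V, χ.1 (σ ^ M₀ * v) * conj (F.θ v)) ≠ 0 →
      ∀ i : ℕ, 0 < i → i < 2 * M₀ → ∀ v : d.V, Commute (v : G) (σ ^ i) →
        χ.1 (σ ^ i * v) = χ.1 (σ ^ i) * F.θ v) : False := by
  classical
  have hM0 := d.hM0
  have hMlt : M₀ < 2 * M₀ := by omega
  obtain ⟨y, hy, hy1⟩ := F.exists_fixed_ne hθ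
  have hne : fixed d ≠ ⊥ := fun h => hy1 (by
    rw [h, Subgroup.mem_bot] at hy; rw [hy, Fix.th_one])
  obtain ⟨m, hm, hinner⟩ := Char.IsGeneralizedCharacter.exists_decomp (F.isGeneralized_PsiT M₀)
  have hnorm : ∑ χ, m χ ^ 2 = 4 := by
    have h := Char.IsGeneralizedCharacter.classInner_self_eq_sum hm
    rw [F.norm_PsiT_half] at h
    exact_mod_cast h.symm
  have hdeg : ∑ χ : IrrCharacter G, m χ * (charDegree χ.1 : ℤ) = 0 := by
    have h := congrFun hm 1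
    rw [F.PsiT_one, Finset.sum_apply] at h
    simp only [Pi.smul_apply, smul_eq_mul, ← Char.charDegree_cast] at h
    have h' : ((0 : ℤ) : ℂ) = ((∑ χ : IrrCharacter G, m χ * (charDegree χ.1 : ℤ) : ℤ) : ℂ) := by
      push_cast
      exact_mod_cast h
    exact (Int.cast_injective h').symm
  have hm1 : ∀ χ, m χ ^ 2 ≤ 1 := by
    intro χ₀
    by_contra hbig
    push Not at hbig
    have h4 : 4 ≤ m χ₀ ^ 2 := by
      rcases le_or_gt 2 (m χ₀) with h | h
      · nlinarith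
      · rcases le_or_gt (m χ₀) (-2) with h' | h'
        · nlinarith
        · exfalso; have : m χ₀ = -1 ∨ m χ₀ = 0 ∨ m χ₀ = 1 := by omega
          rcases this with e | e | e <;> rw [e] at hbig <;> norm_num at hbig
    have hrest := Finset.add_sum_erase Finset.univ (fun χ => m χ ^ 2) (Finset.mem_univ χ₀)
    rw [hnorm] at hrest
    have h0 : ∀ χ ∈ Finset.univ.erase χ₀, m χ = 0 := fun χ hχ => sq_eq_zero_iff.1
      ((Finset.sum_eq_zero_iff_of_nonneg fun x _ => sq_nonneg _).1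
        (le_antisymm (by linarith) (Finset.sum_nonneg fun x _ => sq_nonneg _)) χ hχ)
    rw [Finset.sum_eq_single χ₀ (fun χ _ h => by
      rw [h0 χ (Finset.mem_erase.2 ⟨h, Finset.mem_univ _⟩), zero_mul])
      (fun h => absurd (Finset.mem_univ _) h), mul_eq_zero] at hdeg
    rcases hdeg with h | h
    · rw [h] at h4; norm_num at h4
    · exact (Char.charDegree_pos χ₀).ne' (by exact_mod_cast h)
  choose n c hn hc hpar using fun χ : IrrCharacter G => F.exists_int_avg χ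
  have hcm : ∀ χ, c χ = m χ := fun χ => by
    have := (hc χ).symm.trans (hinner χ); exact_mod_cast this
  have hnsq : ∑ χ, n χ ^ 2 = 4 * (M₀ : ℤ) := by
    have h := F.sum_avg_sq
    simp only [hn, map_intCast] at h
    apply (Int.cast_injective (α := ℂ))
    push_cast
    simpa [pow_two] using h
  set S := Finset.univ.filter fun χ : IrrCharacter G => m χ ≠ 0 with hS
  have hmS : ∀ χ ∈ S, m χ ^ 2 = 1 := fun χ hχ => by
    have h1 := hm1 χ
    have h2 : 0 < m χ ^ 2 := by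
      have := (Finset.mem_filter.1 hχ).2
      positivity
    omega
  have hoddn : ∀ χ ∈ S, Odd (n χ) := fun χ hχ => by
    have h := hmS χ hχ
    have hp := hpar χ
    rw [hcm] at hp
    rw [Int.odd_iff]
    rcases sq_eq_one_iff.1 h with e | e <;> rw [e] at hp <;> omega
  have hScard : (S.card : ℤ) = 4 := by
    rw [← hnorm, ← Finset.sum_subset (Finset.subset_univ S) fun χ _ hχ => by
      simp only [hS, Finset.mem_filter, Finset.mem_univ, true_and, ne_eq, not_not] at hχ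
      rw [hχ]; norm_num, Finset.sum_congr rfl hmS, Finset.sum_const, nsmul_eq_mul, mul_one]
  have hSsq : ∑ χ ∈ S, n χ ^ 2 ≤ 4 * (M₀ : ℤ) - 4 := by
    have hle : ∑ χ ∈ S, n χ ^ 2 ≤ 4 * (M₀ : ℤ) := hnsq ▸
      Finset.sum_le_sum_of_subset_of_nonneg (Finset.subset_univ S) fun x _ _ => sq_nonneg _
    have hmod : (8 : ℤ) ∣ ∑ χ ∈ S, n χ ^ 2 - 4 := by
      rw [← hScard, show (S.card : ℤ) = ∑ χ ∈ S, (1 : ℤ) by simp, ← Finset.sum_sub_distrib]
      exact Finset.dvd_sum fun χ hχ => Int.eight_dvd_sq_sub_one_of_odd (hoddn χ hχ)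
    obtain ⟨k, hk⟩ := hmod
    obtain ⟨l, hl⟩ := d.hM
    omega
  have hfac : ∀ χ ∈ S, χ.1 (σ ^ M₀) = n χ ∧ (4 * (M₀ : ℝ) + 1) ≤ charDegree χ.1 := by
    intro χ hχ
    have ho : (Nat.card d.V : ℂ) ≠ 0 := Char.card_ne_zero
    have hn0 : (n χ : ℂ) ≠ 0 := Int.cast_ne_zero.2 fun h => by
      have := hoddn χ hχ
      rw [h] at this; simp at this
    have hsum : ∑ v : d.V, χ.1 (σ ^ M₀ * v) * conj (F.θ v) = (Nat.card d.V : ℂ) * n χ := by
      have h := hn χ
      rw [Fix.avg, inv_mul_eq_iff_eq_mul₀ ho] at h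
      have h' := congrArg conj h
      simp only [map_sum, map_mul, Complex.conj_conj, map_natCast, map_intCast] at h'
      rw [← h']
      refine Finset.sum_congr rfl fun v _ => ?_
      rw [(d.commute_J v.2).eq, F.th_coe, mul_comm]
    have hv := Hval χ (by rw [hsum]; exact mul_ne_zero ho hn0)
    have hJv : ∀ v : d.V, χ.1 (σ ^ M₀ * v) = χ.1 (σ ^ M₀) * F.θ v := fun v =>
      hv M₀ hM0 hMlt v (d.commute_J v.2).symm
    have hJ : χ.1 (σ ^ M₀) = n χ := by
      rw [Finset.sum_congr rfl (g := fun _ => χ.1 (σ ^ M₀)) fun v _ => by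
        rw [hJv v, mul_assoc, Char.normSq_linear, mul_one],
        Finset.sum_const, Finset.card_univ, nsmul_eq_mul, ← Nat.card_eq_fintype_card] at hsum
      exact mul_left_cancel₀ ho hsum
    refine ⟨hJ, ?_⟩
    have hnt : χ ≠ Char.trivialChar G := by
      rintro rfl
      refine hθ (MonoidHom.ext fun v => ?_)
      have h := hJv v
      simp only [Char.trivialChar_apply, one_mul] at h
      rw [← h, MonoidHom.one_apply]
    have h := degree_bound P hG d hσ hτ hform hne χ hnt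
      (F.θ.comp (Subgroup.inclusion fun y hy => (mem_fixed.1 hy).1))
      (odd_degree d χ (hoddn χ hχ) hJ) (F.apply_fixed P hform χ hv)
    exact_mod_cast h
  obtain ⟨T, hT, hTge⟩ := sgn_sum_ge P hσ hτ hform hG F hne
  have hz : ∀ χ ∉ S, m χ = 0 := fun χ hχ => by
    simpa [hS] using hχ
  have hT' : T = ∑ χ ∈ S, (m χ : ℝ) * (n χ : ℝ) ^ 2 / charDegree χ.1 := by
    apply Complex.ofReal_injective
    rw [← hT, ← F.sum_twisted_eq, Complex.ofReal_sum,
      ← Finset.sum_subset (Finset.subset_univ S) fun χ _ hχ => by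
        rw [hinner, hz χ hχ, Int.cast_zero, mul_zero, zero_div]]
    refine Finset.sum_congr rfl fun χ hχ => ?_
    rw [hinner, (hfac χ hχ).1]
    push_cast
    rw [Char.charDegree_cast]
    ring
  have hpos : (0 : ℝ) < 4 * M₀ + 1 := by positivity
  have hle : T ≤ ∑ χ ∈ S, (n χ : ℝ) ^ 2 / (4 * M₀ + 1) := by
    rw [hT']
    refine Finset.sum_le_sum fun χ hχ => ?_
    refine le_trans ?_ (div_le_div_of_nonneg_left (sq_nonneg _) hpos (hfac χ hχ).2)
    rcases sq_eq_one_iff.1 (hmS χ hχ) with e | e <;> rw [e] <;> push_cast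
    · rw [one_mul]
    · rw [neg_one_mul, neg_div]
      exact neg_le_self (by positivity)
  have hle2 : ∑ χ ∈ S, (n χ : ℝ) ^ 2 / (4 * M₀ + 1) ≤ (4 * (M₀ : ℝ) - 4) / (4 * M₀ + 1) := by
    rw [← Finset.sum_div]
    refine div_le_div_of_nonneg_right ?_ hpos.le
    exact_mod_cast hSsq
  have h := (hTge.trans hle).trans hle2
  rw [one_sub_div hpos.ne', div_le_div_iff_of_pos_right hpos] at h
  linarith

end Cfsg.Agent.GW.LinearFixed
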