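import Cfsg.Agent.Lib.DihedralBlock.SignOrder

/-!
# A linear character of the core of `C(J)` fixed by `C(J)`, and the twisted family of generalised
characters on the rotations
-/

set_option autoImplicit false
set_option linter.style.haveILetI false
set_option linter.unusedSectionVars false

namespace Cfsg.Agent.GW.LinearFixed

open Cfsg
open scoped ComplexConjugate

universe u

variable {G : Type u} [Group G] [Fintype G] {σ τ : G} {M₀ : ℕ}

/-- A linear character of the core fixed by `C(J)`, compatible with the three-cycles on the two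
four groups through `J`. -/
structure Fix (d : DihedralBlock.Data σ τ M₀) where
  θ : d.V →* ℂ
  inv : ∀ c, Commute (σ ^ M₀) c → ∀ v w : d.V, (w : G) = c * v * c⁻¹ → θ w = θ v
  hr : ∀ q, q = τ ∨ q = σ * τ → ∃ r, r * σ ^ M₀ * r⁻¹ = q ∧ r * q * r⁻¹ = σ ^ M₀ * q ∧
    ∀ v w : d.V, Commute q (v : G) → (w : G) = r⁻¹ * v * r → θ w = θ v

variable {d : DihedralBlock.Data σ τ M₀}

namespace Fix

variable (F : Fix d)

open Classical in
/-- The character, extended by zero. -/
noncomputable def th (g : G) : ℂ := if h : g ∈ d.V then F.θ ⟨g, h⟩ else 0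

theorem th_coe (v : d.V) : F.th (v : G) = F.θ v := by rw [th, dif_pos v.2]

theorem th_one : F.th 1 = 1 := (F.th_coe 1).trans (map_one _)

theorem th_mul {v w : G} (hv : v ∈ d.V) (hw : w ∈ d.V) : F.th (v * w) = F.th v * F.th w :=
  (F.th_coe (⟨v, hv⟩ * ⟨w, hw⟩)).trans (by rw [map_mul, ← F.th_coe, ← F.th_coe])

theorem th_mul_conj {v : G} (hv : v ∈ d.V) : F.th v * conj (F.th v) = 1 := by
  have := Char.normSq_linear F.θ ⟨v, hv⟩
  rwa [← F.th_coe] at this

theorem th_conj {c v : G} (hc : Commute (σ ^ M₀) c) (hv : v ∈ d.V) :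
    F.th (c * v * c⁻¹) = F.th v :=
  ((F.th_coe ⟨_, d.normV c hc v hv⟩).trans (F.inv c hc ⟨v, hv⟩ ⟨_, d.normV c hc v hv⟩ rfl)).trans
    (F.th_coe ⟨v, hv⟩).symm

theorem th_eq_one_of_sq {v : G} (hv : v ∈ d.V) (h : F.th v ^ 2 = 1) : F.th v = 1 := by
  have h1 : F.th v ^ orderOf v = 1 := by
    rw [show v = ((⟨v, hv⟩ : d.V) : G) from rfl, F.th_coe, Subgroup.orderOf_coe, ← map_pow,
      pow_orderOf_eq_one, map_one]
  have := pow_gcd_eq_one.2 ⟨h, h1⟩
  rwa [Nat.coprime_iff_gcd_eq_one.1 (Nat.coprime_two_left.2 (d.odd_of_mem hv)), pow_one] at this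

/-- An involution of the form `v q` with `q` centralising `J` has `θ v = 1`. -/
theorem th_eq_one_of_invol {v q : G} (hv : v ∈ d.V) (hq : Commute (σ ^ M₀) q) (hqq : q * q = 1)
    (h : v * q * (v * q) = 1) : F.th v = 1 := by
  refine F.th_eq_one_of_sq hv ?_
  have hm : q * v * q⁻¹ ∈ d.V := d.normV q hq v hv
  have h1 : v * (q * v * q⁻¹) = 1 := by
    rw [inv_eq_of_mul_eq_one_right hqq]
    simpa [mul_assoc] using h
  have h2 := F.th_mul hv hm
  rw [h1, th_one, F.th_conj hq hv] at h2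
  rw [pow_two, ← h2]

open Classical in
/-- The extension to `V⟨σ⟩`, trivial on `σ`. -/
noncomputable def thK : d.K →* ℂ where
  toFun k := F.th k.2.choose
  map_one' := by
    set h := (1 : d.K).2
    have h1 := h.choose_spec.2.choose_spec
    have h2 : h.choose * σ ^ h.choose_spec.2.choose = 1 * σ ^ 0 := by
      rw [← h1, pow_zero, mul_one]; rfl
    show F.th h.choose = 1
    rw [(d.mul_pow_inj h.choose_spec.1 d.V.one_mem h2).1, th_one]
  map_mul' a b := by
    have e : (a * b).2.choose * σ ^ (a * b).2.choose_spec.2.choose =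
        a.2.choose * (σ ^ a.2.choose_spec.2.choose * b.2.choose *
          (σ ^ a.2.choose_spec.2.choose)⁻¹) *
          σ ^ (a.2.choose_spec.2.choose + b.2.choose_spec.2.choose) := by
      rw [← (a * b).2.choose_spec.2.choose_spec, Subgroup.coe_mul]
      conv_lhs => rw [a.2.choose_spec.2.choose_spec, b.2.choose_spec.2.choose_spec]
      rw [pow_add]
      group
    rw [(d.mul_pow_inj (a * b).2.choose_spec.1
        (mul_mem a.2.choose_spec.1 (d.norm_pow _ b.2.choose_spec.1)) e).1,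
      F.th_mul a.2.choose_spec.1 (d.norm_pow _ b.2.choose_spec.1),
      F.th_conj (d.commute_J_pow _) b.2.choose_spec.1]

theorem thK_apply {k : d.K} {v : G} (hv : v ∈ d.V) {i : ℕ} (h : (k : G) = v * σ ^ i) :
    F.thK k = F.th v := by
  show F.th k.2.choose = _
  rw [(d.mul_pow_inj k.2.choose_spec.1 hv (k.2.choose_spec.2.choose_spec.symm.trans h)).1]

/-- The twisted weights. -/
noncomputable def wtT (j : ℕ) (k : d.K) : ℂ :=
  F.thK k * d.wtJ d.isPrimitiveRoot_zeta j k

/-- The twisted generalised characters. -/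
noncomputable def PsiT (j : ℕ) : G → ℂ := indFun d.K (F.wtT j)

theorem isGeneralized_PsiT (j : ℕ) : IsGeneralizedCharacter G (F.PsiT j) := by
  refine Char.isGeneralizedCharacter_indFun d.K
    ⟨fun k => F.thK k, fun k => (F.thK * (powMonoidHom j).comp (d.mu d.isPrimitiveRoot_zeta)) k,
      Char.IsIrrCharacter.isCharacter (Char.isIrrCharacter_of_monoidHom F.thK),
      Char.IsIrrCharacter.isCharacter (Char.isIrrCharacter_of_monoidHom _), funext fun k => ?_⟩
  simp only [wtT, DihedralBlock.Core.wtJ, Pi.sub_apply, MonoidHom.mul_apply, MonoidHom.comp_apply,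
    powMonoidHom_apply]
  ring

theorem PsiT_one (j : ℕ) : F.PsiT j 1 = 0 := by
  rw [PsiT, Char.indFun_apply_one, wtT, DihedralBlock.Core.wtJ, map_one, map_one, one_pow, sub_self,
    mul_zero, mul_zero]

theorem extend_wtT {v : G} (hv : v ∈ d.V) (i j : ℕ) :
    extendByZero d.K (F.wtT j) (v * σ ^ i) = F.th v * (1 - (d.zeta ^ j) ^ i) := by
  rw [← d.extend_wtJ_mul_pow d.isPrimitiveRoot_zeta hv i j,
    Char.extendByZero_of_mem _ _ (d.mul_pow_mem_K hv i),
    Char.extendByZero_of_mem _ _ (d.mul_pow_mem_K hv i), wtT, F.thK_apply hv rfl]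

theorem extend_wtT_conjTau (j : ℕ) {v : G} (hv : v ∈ d.V) (i : ℕ) :
    extendByZero d.K (F.wtT j) (τ * (v * σ ^ i) * τ⁻¹) = F.th v * (1 - ((d.zeta ^ j) ^ i)⁻¹) := by
  have hw := d.normV τ d.commute_J_t v hv
  obtain ⟨m, hm⟩ := d.exists_pow_inv i
  have e : τ * (v * σ ^ i) * τ⁻¹ = τ * v * τ⁻¹ * σ ^ m := by
    rw [hm, ← d.conj_pow_eq i]; group
  have h := d.extend_wtJ_conjTau d.isPrimitiveRoot_zeta j hv i
  rw [e, d.extend_wtJ_mul_pow d.isPrimitiveRoot_zeta hw] at h
  rw [e, F.extend_wtT hw, h, F.th_conj d.commute_J_t hv]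

/-- Opposite exponents give the same induced character. -/
theorem PsiT_opp {j : ℕ} (hj : j ≤ 2 * M₀) : F.PsiT (2 * M₀ - j) = F.PsiT j := by
  have key : ∀ y : G, extendByZero d.K (F.wtT (2 * M₀ - j)) y =
      extendByZero d.K (F.wtT j) (τ * y * τ⁻¹) := by
    intro y
    by_cases hy : y ∈ d.K
    · obtain ⟨v, hv, i, rfl⟩ := hy
      rw [F.extend_wtT hv, F.extend_wtT_conjTau j hv,
        ← d.inv_root_pow d.isPrimitiveRoot_zeta hj, inv_pow]
    · rw [Char.extendByZero_of_notMem _ _ hy, Char.extendByZero_of_notMem]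
      intro h
      refine hy ?_
      have h2 := d.conjTau_mem_K d.isPrimitiveRoot_zeta h
      rw [d.tinv] at h2
      simpa [mul_assoc, ← mul_assoc τ τ, d.tsq] using h2
  funext g
  simp only [PsiT, indFun]
  congr 1
  refine Fintype.sum_equiv (Equiv.mulRight τ⁻¹) _ _ fun x => ?_
  rw [key, Equiv.coe_mulRight]
  congr 1
  group

/-- Values on rotations off `V`. -/
theorem PsiT_apply (j : ℕ) {v : G} (hv : v ∈ d.V) {i : ℕ} (hi : σ ^ i ≠ 1) :
    F.PsiT j (v * σ ^ i) = F.th v * (2 - (d.zeta ^ j) ^ i - ((d.zeta ^ j) ^ i)⁻¹) := by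
  classical
  haveI := Fintype.ofFinite d.K
  have hK : v * σ ^ i ∈ d.K := d.mul_pow_mem_K hv i
  set f := extendByZero d.K (F.wtT j) with hf
  have hsupp : ∀ x : G, x⁻¹ * (v * σ ^ i) * x ∈ d.K → x ∈ d.K ∨ x * τ ∈ d.K := by
    intro x hx
    rcases d.centralizer_cases (d.commute_of_conj_mem hv hi hx) with h | ⟨k, hk, rfl⟩
    · exact Or.inl h
    · refine Or.inr ?_
      rwa [mul_assoc, d.tsq, mul_one]
  have hinK : ∀ k : d.K,
      f ((k : G)⁻¹ * (v * σ ^ i) * k) = F.th v * (1 - (d.zeta ^ j) ^ i) := by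
    intro k
    have hmem : (k : G)⁻¹ * (v * σ ^ i) * k ∈ d.K := mul_mem (mul_mem (inv_mem k.2) hK) k.2
    rw [← F.extend_wtT hv, hf, Char.extendByZero_of_mem _ _ hmem, Char.extendByZero_of_mem _ _ hK,
      show (⟨_, hmem⟩ : d.K) = k⁻¹ * ⟨v * σ ^ i, hK⟩ * k from Subtype.ext rfl]
    have hφ : ∀ (φ : d.K →* ℂ) (a : d.K), φ (k⁻¹ * a * k) = φ a := fun φ a => by
      rw [map_mul, map_mul, mul_comm (φ k⁻¹), mul_assoc, ← map_mul, inv_mul_cancel, map_one, mul_one]
    simp only [wtT, DihedralBlock.Core.wtJ, hφ]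
  have hinKt : ∀ k : d.K, f (((k : G) * τ)⁻¹ * (v * σ ^ i) * ((k : G) * τ)) =
      F.th v * (1 - ((d.zeta ^ j) ^ i)⁻¹) := by
    intro k
    have hmem : (k : G)⁻¹ * (v * σ ^ i) * k ∈ d.K := mul_mem (mul_mem (inv_mem k.2) hK) k.2
    obtain ⟨w, hw, l, hl⟩ := id hmem
    have e : ((k : G) * τ)⁻¹ * (v * σ ^ i) * ((k : G) * τ) = τ * (w * σ ^ l) * τ⁻¹ := by
      rw [← hl, d.tinv, mul_inv_rev, d.tinv]
      simp only [mul_assoc]
    have hmu : d.zeta ^ l = d.zeta ^ i ∧ F.th w = F.th v := by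
      have hφ : ∀ (φ : d.K →* ℂ), φ ⟨_, hmem⟩ = φ ⟨v * σ ^ i, hK⟩ := fun φ => by
        rw [show (⟨_, hmem⟩ : d.K) = k⁻¹ * ⟨v * σ ^ i, hK⟩ * k from Subtype.ext rfl, map_mul, map_mul,
          mul_comm (φ k⁻¹), mul_assoc, ← map_mul, inv_mul_cancel, map_one, mul_one]
      constructor
      · rw [← d.mu_apply d.isPrimitiveRoot_zeta hw (k := ⟨_, hmem⟩) hl, hφ,
          d.mu_apply d.isPrimitiveRoot_zeta hv rfl]
      · rw [← F.thK_apply hw (k := ⟨_, hmem⟩) hl, hφ, F.thK_apply hv rfl]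
    rw [e, hf, F.extend_wtT_conjTau j hw, hmu.2, ← pow_mul, mul_comm j l, pow_mul, hmu.1, ← pow_mul,
      ← pow_mul, mul_comm i j]
  have hsum : ∑ x : G, f (x⁻¹ * (v * σ ^ i) * x) =
      ∑ k : d.K, f ((k : G)⁻¹ * (v * σ ^ i) * k) +
        ∑ k : d.K, f (((k : G) * τ)⁻¹ * (v * σ ^ i) * ((k : G) * τ)) := by
    refine Eq.trans ?_ (Fintype.sum_sum_type (Sum.elim
      (fun k : d.K => f ((k : G)⁻¹ * (v * σ ^ i) * k))
      (fun k : d.K => f (((k : G) * τ)⁻¹ * (v * σ ^ i) * ((k : G) * τ)))))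
    refine Eq.symm (Finset.sum_bij_ne_zero
      (fun s _ _ => Sum.elim (fun k : d.K => (k : G)) (fun k : d.K => (k : G) * τ) s)
      (fun _ _ _ => Finset.mem_univ _) ?_ ?_ ?_)
    · intro a _ _ b _ _ h
      rcases a with a | a <;> rcases b with b | b <;> simp only [Sum.elim_inl, Sum.elim_inr] at h
      · exact congrArg Sum.inl (Subtype.ext h)
      · exact absurd (h ▸ a.2) (d.mul_tau_notin_K b.2)
      · exact absurd (h.symm ▸ b.2) (d.mul_tau_notin_K a.2)
      · exact congrArg Sum.inr (Subtype.ext (mul_right_cancel h))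
    · intro x _ hne
      have hx : x⁻¹ * (v * σ ^ i) * x ∈ d.K := by
        by_contra h; exact hne (Char.extendByZero_of_notMem _ _ h)
      rcases hsupp x hx with h | h
      · exact ⟨Sum.inl ⟨x, h⟩, Finset.mem_univ _, hne, rfl⟩
      · refine ⟨Sum.inr ⟨x * τ, h⟩, Finset.mem_univ _, ?_, ?_⟩
        · show f ((x * τ * τ)⁻¹ * (v * σ ^ i) * (x * τ * τ)) ≠ 0
          rw [mul_assoc x, d.tsq, mul_one]; exact hne
        · simp [mul_assoc, d.tsq]
    · intro s _ _
      rcases s with s | s <;> rfl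
  have hcK : (Nat.card d.K : ℂ) ≠ 0 := Char.card_ne_zero
  rw [PsiT, indFun, ← hf, hsum, Finset.sum_congr rfl fun k _ => hinK k,
    Finset.sum_congr rfl fun k _ => hinKt k, Finset.sum_const, Finset.sum_const, Finset.card_univ,
    ← Nat.card_eq_fintype_card, nsmul_eq_mul, nsmul_eq_mul, ← mul_add, inv_mul_cancel_left₀ hcK]
  ring

/-- The average over `V` of the conjugate values at a rotation, against the character. -/
noncomputable def avg [Fintype d.V] (χ : G → ℂ) (i : ℕ) : ℂ :=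
  (Nat.card d.V : ℂ)⁻¹ * ∑ v : d.V, F.th v * conj (χ ((v : G) * σ ^ i))

theorem classInner_PsiT (j : ℕ) [Fintype d.V] {χ : G → ℂ} (hχ : IsClassFunction G χ) :
    classInner (F.PsiT j) χ = ((2 * M₀ : ℕ) : ℂ)⁻¹ *
      ∑ i : Fin (2 * M₀), (1 - (d.zeta ^ j) ^ (i : ℕ)) * F.avg χ i := by
  classical
  haveI := Fintype.ofFinite d.K
  rw [PsiT, Char.classInner_indFun d.K _ hχ, classInner, Finset.mul_sum, Finset.mul_sum]
  refine Eq.trans (Finset.sum_congr rfl fun k _ => ?_)
    ((d.sum_K fun g => (Nat.card d.K : ℂ)⁻¹ *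
      (extendByZero d.K (F.wtT j) g * conj (χ g))).trans ?_)
  · rw [Char.extendByZero_coe]
  · refine Finset.sum_congr rfl fun i _ => ?_
    rw [avg, d.card_K, Finset.mul_sum, Finset.mul_sum, Finset.mul_sum]
    refine Finset.sum_congr rfl fun v _ => ?_
    rw [F.extend_wtT v.2]
    push_cast
    rw [mul_inv]
    ring

theorem norm_PsiT_half : classInner (F.PsiT M₀) (F.PsiT M₀) = 4 := by
  classical
  haveI := Fintype.ofFinite d.V
  have hV : (Nat.card d.V : ℂ) ≠ 0 := Char.card_ne_zero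
  rw [F.classInner_PsiT M₀ (show IsClassFunction G (F.PsiT M₀) from Char.isClassFunction_indFun _ _),
    Finset.sum_congr rfl (g := fun i : Fin (2 * M₀) => 4 * (1 - (-1 : ℂ) ^ (i : ℕ))) fun i _ => ?_,
    ← Finset.mul_sum, Fin.sum_univ_eq_sum_range (fun i => (1 - (-1 : ℂ) ^ i)),
    DihedralBlock.Core.sum_range_two_mul,
    Finset.sum_congr rfl fun m _ => show (1 - (-1 : ℂ) ^ (2 * m)) + (1 - (-1) ^ (2 * m + 1)) = 2 by
      rw [pow_succ, pow_mul]; norm_num,
    Finset.sum_const, Finset.card_range, nsmul_eq_mul]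
  · have h2 : (M₀ : ℂ) ≠ 0 := Nat.cast_ne_zero.2 d.hM0.ne'
    push_cast
    field_simp
  · rw [d.zeta_pow_M]
    rcases Nat.even_or_odd (i : ℕ) with he | ho
    · rw [Even.neg_one_pow he, sub_self, zero_mul, mul_zero]
    · have hi := d.pow_ne_one d.isPrimitiveRoot_zeta ho.pos i.2
      rw [avg, Finset.sum_congr rfl (g := fun _ => (4 : ℂ)) fun v _ => ?_, Finset.sum_const,
        Finset.card_univ, nsmul_eq_mul, ← Nat.card_eq_fintype_card, inv_mul_cancel_left₀ hV,
        Odd.neg_one_pow ho]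
      · ring
      · rw [F.PsiT_apply M₀ v.2 hi, d.zeta_pow_M, Odd.neg_one_pow ho, map_mul, ← mul_assoc,
          F.th_mul_conj v.2, one_mul]
        norm_num
        exact map_ofNat _ 4

/-- The average at `J` is recovered from the multiplicities. -/
theorem avg_J_eq [Fintype d.V] {χ : G → ℂ} (hχ : IsClassFunction G χ) :
    F.avg χ M₀ = -∑ j ∈ Finset.range (2 * M₀), (-1) ^ j * classInner (F.PsiT j) χ := by
  classical
  have hM := d.hM0
  have hζ := d.isPrimitiveRoot_zeta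
  simp only [F.classInner_PsiT _ hχ, Finset.mul_sum]
  rw [Finset.sum_comm]
  have hterm : ∀ i : Fin (2 * M₀), ∑ j ∈ Finset.range (2 * M₀),
      (-1 : ℂ) ^ j * (((2 * M₀ : ℕ) : ℂ)⁻¹ * ((1 - (d.zeta ^ j) ^ (i : ℕ)) * F.avg χ i)) =
      if (i : ℕ) = M₀ then -F.avg χ i else 0 := by
    intro i
    have hneg : ∑ j ∈ Finset.range (2 * M₀), (-1 : ℂ) ^ j = 0 := by
      rw [DihedralBlock.Core.sum_range_two_mul]
      refine Finset.sum_eq_zero fun m _ => ?_
      rw [pow_succ, pow_mul]; norm_num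
    have e : ∀ j, (-1 : ℂ) ^ j * (((2 * M₀ : ℕ) : ℂ)⁻¹ * ((1 - (d.zeta ^ j) ^ (i : ℕ)) * F.avg χ i)) =
        ((2 * M₀ : ℕ) : ℂ)⁻¹ * F.avg χ i * ((-1 : ℂ) ^ j - (d.zeta ^ (M₀ + (i : ℕ))) ^ j) := fun j => by
      rw [pow_add, d.zeta_pow_M, mul_pow, ← pow_mul, ← pow_mul, mul_comm (i : ℕ) j]
      ring
    rw [Finset.sum_congr rfl fun j _ => e j, ← Finset.mul_sum, Finset.sum_sub_distrib, hneg,
      ← Fin.sum_univ_eq_sum_range fun j => (d.zeta ^ (M₀ + (i : ℕ))) ^ j, d.sum_root_pow hζ]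
    have h5 : 2 * M₀ ∣ M₀ + (i : ℕ) ↔ (i : ℕ) = M₀ := by
      refine ⟨fun h => ?_, fun h => ⟨1, by omega⟩⟩
      obtain ⟨c, hc⟩ := h
      have := i.2
      rcases c with _ | _ | c
      · omega
      · omega
      · have : 2 * M₀ * 2 ≤ 2 * M₀ * (c + 1 + 1) := Nat.mul_le_mul_left _ (by omega)
        omega
    simp only [h5]
    have hne : ((2 * M₀ : ℕ) : ℂ) ≠ 0 := Nat.cast_ne_zero.2 (by omega)
    split_ifs
    · field_simp
      ring
    · ring
  rw [Finset.sum_congr rfl fun i _ => hterm i,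
    Finset.sum_eq_single (⟨M₀, by omega⟩ : Fin (2 * M₀))
      (fun l _ hl => if_neg fun h => hl (Fin.ext h)) (fun h => absurd (Finset.mem_univ _) h),
    if_pos rfl, neg_neg]

/-- The average at `J` is an integer with the parity of the multiplicity in the half twisted
character. -/
theorem exists_int_avg [Fintype d.V] (χ : IrrCharacter G) :
    ∃ n c : ℤ, F.avg χ.1 M₀ = n ∧ classInner (F.PsiT M₀) χ.1 = c ∧ 2 ∣ n - c := by
  classical
  have hM := d.hM0
  choose c hc using fun j => Char.IsGeneralizedCharacter.exists_int_classInner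
    (F.isGeneralized_PsiT j) (Char.irr_isGeneralized χ)
  refine ⟨-∑ j ∈ Finset.range (2 * M₀), (-1) ^ j * c j, c M₀, ?_, hc M₀, ?_⟩
  · rw [F.avg_J_eq (Blocks.irr_classFun χ)]
    push_cast
    simp only [hc]
  rw [← even_iff_two_dvd, Int.even_sub, Int.even_iff, Int.even_iff]
  have h2 : ((-∑ j ∈ Finset.range (2 * M₀), (-1) ^ j * c j : ℤ) : ZMod 2) = (c M₀ : ZMod 2) := by
    push_cast
    rw [CharTwo.neg_eq]
    simp only [CharTwo.neg_eq, one_pow, one_mul]
    rw [← Finset.add_sum_erase _ _ (Finset.mem_range.2 (by omega : M₀ < 2 * M₀)),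
      ← Finset.add_sum_erase _ _ (Finset.mem_erase.2 ⟨(by omega : 0 ≠ M₀),
        Finset.mem_range.2 (by omega : 0 < 2 * M₀)⟩)]
    have h0 : c 0 = 0 := by
      have h := hc 0
      rw [F.classInner_PsiT 0 (Blocks.irr_classFun χ)] at h
      simp only [pow_zero, one_pow, sub_self, zero_mul, Finset.sum_const_zero, mul_zero] at h
      exact_mod_cast h.symm
    rw [h0, Int.cast_zero, zero_add, add_eq_left]
    refine Finset.sum_involution (fun j _ => 2 * M₀ - j) ?_ ?_ ?_ ?_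
    · intro j hj
      simp only [Finset.mem_erase, Finset.mem_range] at hj
      have : c (2 * M₀ - j) = c j := by
        have h := hc (2 * M₀ - j)
        rw [F.PsiT_opp (by omega), hc j] at h
        exact_mod_cast h.symm
      rw [this]
      exact CharTwo.add_self_eq_zero _
    · intro j hj _
      simp only [Finset.mem_erase, Finset.mem_range] at hj
      omega
    · intro j hj
      simp only [Finset.mem_erase, Finset.mem_range] at hj ⊢
      omega
    · intro j hj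
      simp only [Finset.mem_erase, Finset.mem_range] at hj
      omega
  have h3 := (ZMod.intCast_eq_intCast_iff' _ _ _).1 h2
  push_cast at h3
  omega

end Fix

end Cfsg.Agent.GW.LinearFixed
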