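import Cfsg.Agent.Lib.GW.LinearFixed.Main
import Cfsg.Agent.Lib.GW.LinearFixed.Twist
import Cfsg.Agent.Lib.Blocks.ThirdMain

/-!
# The block over a fixed linear character of the core: values on the rotation sections

The pairs below the Sylow pair of the block keep the idempotent of the linear character, and all
pairs of the block are conjugate to these; so the second main theorem leaves one component only.
-/

set_option autoImplicit false
set_option linter.style.haveILetI false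
set_option linter.unusedSectionVars false
set_option maxHeartbeats 800000

namespace Cfsg.Agent.GW.LinearFixed

open Cfsg
open scoped ComplexConjugate Cfsg.Agent.Blocks

universe u

variable {G : Type u} [Group G] [Fintype G] {σ τ : G} {M₀ : ℕ} {d : DihedralBlock.Data σ τ M₀}

theorem centralizer_le_of_J {R : Subgroup G} (hJR : σ ^ M₀ ∈ R) {c : G}
    (hc : c ∈ Subgroup.centralizer (R : Set G)) : Commute (σ ^ M₀) c :=
  Subgroup.mem_centralizer_iff.1 hc _ hJR

theorem commute_J_sylow (d : DihedralBlock.Data σ τ M₀) (P : Sylow 2 G)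
    (hform : ∀ x ∈ (P : Subgroup G), ∃ i : ℕ, x = σ ^ i ∨ x = σ ^ i * τ) {x : G}
    (hx : x ∈ (P : Subgroup G)) : Commute (σ ^ M₀) x := by
  obtain ⟨i, rfl | rfl⟩ := hform x hx
  · exact d.commute_J_pow i
  · exact (d.commute_J_pow i).mul_right d.commute_J_t

namespace Fix

variable (F : Fix d) {M : Ideal AlgInt} [M.IsMaximal] [CharP (AlgInt ⧸ M) 2]

theorem mulOn (R : Subgroup G) : MulOn (d.V ⊓ R) F.th :=
  ⟨F.th_one, fun _ ha _ hb => F.th_mul ha.1 hb.1⟩

theorem memLocalRing_th {x : G} (hx : x ∈ d.V) : MemLocalRing M (F.th x) := by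
  refine Blocks.memLocalRing_of_isIntegral ?_
  refine IsIntegral.of_pow (Nat.pos_of_ne_zero (orderOf_pos x).ne') ?_
  rw [show x = ((⟨x, hx⟩ : d.V) : G) from rfl, F.th_coe, Subgroup.orderOf_coe, ← map_pow,
    pow_orderOf_eq_one, map_one]
  exact isIntegral_one

variable (M) in
/-- The idempotent of the character at a subgroup. -/
noncomputable def zR (R : Subgroup G) : MonoidAlgebra (AlgInt ⧸ M) G :=
  twEl (d.V ⊓ Subgroup.centralizer (R : Set G)) fun x => Blocks.red M (F.th x)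

theorem red_mulOn (R : Subgroup G) : MulOn (d.V ⊓ R) fun x => Blocks.red M (F.th x) :=
  ⟨by simp only [th_one, Blocks.red_one], fun a ha b hb => by
    simp only [F.th_mul ha.1 hb.1]
    exact Blocks.red_mul (F.memLocalRing_th ha.1) (F.memLocalRing_th hb.1)⟩

theorem not_two_dvd (R : Subgroup G) : ¬ 2 ∣ Nat.card (d.V ⊓ R : Subgroup G) := fun h =>
  (Nat.not_even_iff_odd.2 d.oddV)
    (even_iff_two_dvd.2 (h.trans (Subgroup.card_dvd_of_le inf_le_left)))

theorem conj_mem_inf {R : Subgroup G} {c : G} (hcJ : Commute (σ ^ M₀) c)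
    (hcR : c ∈ Subgroup.normalizer (R : Set G)) :
    c ∈ Subgroup.normalizer ((d.V ⊓ Subgroup.centralizer (R : Set G) : Subgroup G) : Set G) :=
  BrauerPairs.mem_normalizer_of_conj_le fun x hx =>
    ⟨d.normV c hcJ x hx.1,
      ((Subgroup.mem_normalizer_iff.1 (BrauerPairs.normalizer_le_normalizer_centralizer R hcR)) x).1
        hx.2⟩

theorem zR_mem {R : Subgroup G} (hJR : σ ^ M₀ ∈ R) :
    F.zR M R ∈ BrauerPairs.centerIn (AlgInt ⧸ M) (Subgroup.centralizer (R : Set G)) :=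
  twEl_mem_centerIn inf_le_right
    (fun _ hc => conj_mem_inf (centralizer_le_of_J hJR hc) (Subgroup.centralizer_le_normalizer _ hc))
    fun c hc x hx => by simp only [F.th_conj (centralizer_le_of_J hJR hc) hx.1]

theorem zR_idem (R : Subgroup G) : F.zR M R * F.zR M R = F.zR M R :=
  twEl_idem (p := 2) (not_two_dvd _) (F.red_mulOn _)

theorem zR_fixed {R T : Subgroup G} (hT : ∀ c ∈ T, Commute (σ ^ M₀) c)
    (hTR : T ≤ Subgroup.normalizer (R : Set G)) :
    F.zR M R ∈ BrauerPairs.fixedBy (AlgInt ⧸ M) T :=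
  twEl_mem_fixedBy (fun _ hc => conj_mem_inf (hT _ hc) (hTR hc))
    fun c hc x hx => by simp only [F.th_conj (hT c hc) hx.1]

theorem br_zR {R T : Subgroup G} (hTp : IsPGroup 2 T) (hRT : R ≤ T)
    (hT : ∀ c ∈ T, Commute (σ ^ M₀) c) (hTR : T ≤ Subgroup.normalizer (R : Set G)) :
    BrauerPairs.br T (F.zR M R) = F.zR M T := by
  rw [zR, br_twEl hTp (fun _ hc => conj_mem_inf (hT _ hc) (hTR hc))]
  refine twEl_congr ?_ fun _ _ => rfl
  rw [inf_assoc, BrauerPairs.centralizer_inf_of_le hRT]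

/-- The pairs below a pair with the idempotent keep it. -/
theorem down {a b : Subgroup G × MonoidAlgebra (AlgInt ⧸ M) G}
    (hJb : ∀ c ∈ b.1, Commute (σ ^ M₀) c) (hb : F.zR M b.1 * b.2 = b.2)
    (h : BrauerPairs.PLE 2 a b) : σ ^ M₀ ∈ a.1 → F.zR M a.1 * a.2 = a.2 := by
  induction h using Relation.ReflTransGen.head_induction_on with
  | refl => exact fun _ => hb
  | @head a c h1 h2 ih =>
    intro ha
    have hc : ∀ x ∈ c.1, Commute (σ ^ M₀) x := fun x hx => hJb x (BrauerPairs.PLE.le h2 hx)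
    refine step_down h1 (F.zR_mem ha) (F.zR_idem _) (F.zR_fixed hc h1.2.2.2.1) ?_
    rw [F.br_zR h1.2.1.1 h1.2.2.1 hc h1.2.2.2.1]
    exact ih (h1.2.2.1 ha)

theorem conjEl_zR {g : G} (hg : Commute (σ ^ M₀) g) (R : Subgroup G) :
    BrauerPairs.conjEl g (F.zR M R) = F.zR M (R.map (MulAut.conj g).toMonoidHom) := by
  rw [zR, conjEl_twEl]
  refine twEl_congr ?_ fun x hx => ?_
  · rw [Subgroup.map_inf _ _ _ (MulAut.conj g).injective, BrauerPairs.map_conj_centralizer]
    congr 1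
    ext x
    rw [Subgroup.mem_map_equiv, MulAut.conj_symm_apply]
    refine ⟨fun h => ?_, fun h => ?_⟩
    · have := d.normV g hg _ h; simpa [mul_assoc] using this
    · have := d.normV g⁻¹ hg.inv_right _ h; simpa [mul_assoc] using this
  · obtain ⟨y, hy, rfl⟩ := hx
    have e : g⁻¹ * ((MulAut.conj g).toMonoidHom y) * g = y := by simp [mul_assoc]
    simp only [e]
    congr 1
    exact (F.th_conj hg hy.1).symm

/-- The relations on one block of the centraliser of a rotation. -/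
theorem block_cases {x : G} (hx : σ ^ M₀ ∈ Subgroup.zpowers x) (hpM : ((2 : ℕ) : AlgInt) ∈ M)
    {b : Set (IrrCharacter (Subgroup.centralizer ({x} : Set G)))} (hb : IsPBlock M b) :
    (F.zR M (Subgroup.zpowers x) * BrauerPairs.blk M _ b = BrauerPairs.blk M _ b ∧
      ∀ η ∈ b, ∀ v h : Subgroup.centralizer ({x} : Set G), (v : G) ∈ d.V →
        η.1 (v * h) = F.th v * η.1 h) ∨
    (F.zR M (Subgroup.zpowers x) * BrauerPairs.blk M _ b = 0 ∧
      ∀ η ∈ b, ∀ (t : Finset (Subgroup.centralizer ({x} : Set G))),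
        (∀ v, v ∈ t ↔ (v : G) ∈ d.V) →
        ∀ g, ∑ v ∈ t, F.th (v⁻¹ : Subgroup.centralizer ({x} : Set G)) * η.1 (v * g) = 0) := by
  have hC := Blocks.centralizer_zpowers_eq (x := x)
  have h := blk_mul_twEl_cases (H := Subgroup.centralizer ({x} : Set G))
    (K := d.V ⊓ Subgroup.centralizer (Subgroup.zpowers x : Set G)) (θ := F.th) hpM
    (hC ▸ inf_le_right)
    (fun c hc => by
      rw [← hC] at hc
      exact conj_mem_inf (centralizer_le_of_J hx hc) (Subgroup.centralizer_le_normalizer _ hc))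
    (not_two_dvd _) (F.mulOn _) (fun v hv => F.memLocalRing_th hv.1)
    (fun c hc v hv => by
      rw [← hC] at hc
      exact F.th_conj (centralizer_le_of_J hx hc) hv.1) hb
  have hmem : ∀ v : Subgroup.centralizer ({x} : Set G),
      (v : G) ∈ d.V ⊓ Subgroup.centralizer (Subgroup.zpowers x : Set G) ↔ (v : G) ∈ d.V :=
    fun v => ⟨fun h => h.1, fun h => ⟨h, hC.ge v.2⟩⟩
  rcases h with ⟨h1, h2⟩ | ⟨h1, h2⟩
  · exact Or.inl ⟨h1, fun η hη v h hv => h2 η hη v h ((hmem v).2 hv)⟩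
  · exact Or.inr ⟨h1, fun η hη t ht g => h2 η hη t (fun v => (ht v).trans (hmem v).symm) g⟩

/-- An inducing block gives a pair. -/
theorem isPairOf_inducing {x : G} (hx : ∃ k, orderOf x = 2 ^ k) {B : Set (IrrCharacter G)}
    {b : Set (IrrCharacter (Subgroup.centralizer ({x} : Set G)))}
    (hind : IsInducedBlock M (Subgroup.centralizer ({x} : Set G)) b B) :
    BrauerPairs.IsPairOf 2 (BrauerPairs.blkG M B)
      (Subgroup.zpowers x, BrauerPairs.blk M _ b) := by
  haveI : Fact (Nat.Prime 2) := ⟨Nat.prime_two⟩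
  have hC := Blocks.centralizer_zpowers_eq (x := x)
  have hb := BrauerPairs.isBlockIdem_blk (M := M) (Subgroup.centralizer ({x} : Set G)) hind.1
  refine BrauerPairs.isPairOf_of_induced (Blocks.isPGroup_zpowers hx) Blocks.zpowers_le_centralizer
    hC.le hind (f := BrauerPairs.blk M _ b) (by rw [hC]; exact hb) ?_
  rw [BrauerPairs.br_eq_self fun y hy => hb.mem.1 y fun h => hy (hC.ge h), hb.idem]

/-- All blocks of `C(J)` with the idempotent coincide. -/
theorem block_unique (hpM : ((2 : ℕ) : AlgInt) ∈ M)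
    {b b' : Set (IrrCharacter (Subgroup.centralizer ({σ ^ M₀} : Set G)))}
    (hb : IsPBlock M b) (hb' : IsPBlock M b')
    (h : F.zR M (Subgroup.zpowers (σ ^ M₀)) * BrauerPairs.blk M _ b = BrauerPairs.blk M _ b)
    (h' : F.zR M (Subgroup.zpowers (σ ^ M₀)) * BrauerPairs.blk M _ b' = BrauerPairs.blk M _ b') :
    b = b' := by
  classical
  haveI : Fact (Nat.Prime 2) := ⟨Nat.prime_two⟩
  obtain ⟨η, hη⟩ := BrauerPairs.nonempty_of_isPBlock hb
  obtain ⟨η', hη'⟩ := BrauerPairs.nonempty_of_isPBlock hb'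
  have key : ∀ {c : Set (IrrCharacter (Subgroup.centralizer ({σ ^ M₀} : Set G)))}, IsPBlock M c →
      F.zR M (Subgroup.zpowers (σ ^ M₀)) * BrauerPairs.blk M _ c = BrauerPairs.blk M _ c →
      ∀ ξ ∈ c, ∀ g : Subgroup.centralizer ({σ ^ M₀} : Set G), IsPRegular 2 g →
        centralChar ξ.1 g = ((Subgroup.centralizer ({g} : Set _)).index : ℂ) * F.th g := by
    intro c hc hz ξ hξ g hg
    rcases F.block_cases (Subgroup.mem_zpowers _) hpM hc with ⟨-, h2⟩ | ⟨h1, -⟩
    · have hgV : (g : G) ∈ d.V := (d.mem_V _).2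
        ⟨(Subgroup.mem_centralizer_singleton_iff.1 g.2).symm, by
          rw [Subgroup.orderOf_coe]
          exact Nat.not_even_iff_odd.1 fun h => hg (even_iff_two_dvd.1 h)⟩
      have h3 := h2 ξ hξ g 1 hgV
      rw [mul_one] at h3
      rw [centralChar, h3]
      have := Blocks.irr_one_ne_zero ξ
      field_simp
    · exact absurd (hz.symm.trans h1) (BrauerPairs.isBlockIdem_blk _ hc).ne_zero
  rw [Blocks.block_eq hb hη, Blocks.block_eq hb' hη']
  refine Blocks.blockOf_eq (Blocks.sameBlock_of_regular hpM fun g hg => ?_)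
  rw [key hb h η hη g hg, key hb' h' η' hη' g hg, sub_self]
  exact Blocks.memLocalIdeal_zero

theorem conj_th_inv {v : G} (hv : v ∈ d.V) : conj (F.th v⁻¹) = F.th v := by
  have h1 : F.th v⁻¹ * F.th v = 1 := by
    rw [← F.th_mul (d.V.inv_mem hv) hv, inv_mul_cancel, th_one]
  have h2 := F.th_mul_conj hv
  have h3 : F.th v⁻¹ = conj (F.th v) := by
    calc F.th v⁻¹ = F.th v⁻¹ * (F.th v * conj (F.th v)) := by rw [h2, mul_one]
      _ = conj (F.th v) := by rw [← mul_assoc, h1, one_mul]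
  rw [h3, Complex.conj_conj]

end Fix

theorem two_pow_rot (d : DihedralBlock.Data σ τ M₀) (i : ℕ) : ∃ k, orderOf (σ ^ i) = 2 ^ k := by
  obtain ⟨k, hk⟩ := d.two_pow
  obtain ⟨s, -, hs⟩ := (Nat.dvd_prime_pow Nat.prime_two).1
    (hk ▸ orderOf_pow_dvd (x := σ) i : orderOf (σ ^ i) ∣ 2 ^ k)
  exact ⟨s, hs⟩

section

variable {M : Ideal AlgInt} [M.IsMaximal] [CharP (AlgInt ⧸ M) 2]

/-- The values through the inducing set. -/
theorem apply_eq_sum (d : DihedralBlock.Data σ τ M₀) (hpM : ((2 : ℕ) : AlgInt) ∈ M)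
    {χ : IrrCharacter G} {B : Set (IrrCharacter G)} (hB : IsPBlock M B) (hχB : χ ∈ B) (i : ℕ)
    {v : G} (hvV : v ∈ d.V) (hcv : Commute v (σ ^ i))
    [Fintype (Subgroup.centralizer ({σ ^ i} : Set G))]
    (hv : v ∈ Subgroup.centralizer ({σ ^ i} : Set G)) :
    χ.1 (σ ^ i * v) = ∑ k : Subgroup.centralizer ({σ ^ i} : Set G),
      blockCoeff (Blocks.inducingSet M (Subgroup.centralizer ({σ ^ i} : Set G)) B)
        (k * (⟨v, hv⟩ : Subgroup.centralizer ({σ ^ i} : Set G))⁻¹) * χ.1 ((k : G) * σ ^ i) := by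
  classical
  haveI : Fact (Nat.Prime 2) := ⟨Nat.prime_two⟩
  have htwo := two_pow_rot d
  have hg : IsPPart 2 (σ ^ i * v) (σ ^ i) := Blocks.isPPart_mul hcv.symm (htwo i) fun h =>
    (Nat.not_even_iff_odd.2 (d.odd_of_mem hvV)) (even_iff_two_dvd.2 h)
  set u : Subgroup.centralizer ({σ ^ i} : Set G) :=
    ⟨σ ^ i, Subgroup.mem_centralizer_singleton_iff.2 rfl⟩
  have h := Blocks.chiL_inducingSet hpM (htwo i) hB χ (g := u * ⟨v, hv⟩) hg
  rw [if_pos hχB, Blocks.chiL_inclA_mul_single] at h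
  refine h.symm.trans (Fintype.sum_equiv (Equiv.mulRight (⟨v, hv⟩ : Subgroup.centralizer
    ({σ ^ i} : Set G))) _ _ fun k => ?_)
  rw [Blocks.coeff_blockIdem, Equiv.coe_mulRight, mul_inv_cancel_right]
  congr 1
  refine congrArg χ.1 ?_
  show (k : G) * (σ ^ i * v) = (k : G) * v * σ ^ i
  rw [mul_assoc, hcv.eq]

/-- Some block of `C(J)` inducing the block of `χ` carries the idempotent. -/
theorem exists_component [Fintype d.V] (F : Fix d) (hpM : ((2 : ℕ) : AlgInt) ∈ M)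
    {χ : IrrCharacter G} {B : Set (IrrCharacter G)} (hB : IsPBlock M B) (hχB : χ ∈ B)
    (hχ : (∑ v : d.V, χ.1 (σ ^ M₀ * v) * conj (F.θ v)) ≠ 0) :
    ∃ η ∈ Blocks.inducingSet M (Subgroup.centralizer ({σ ^ M₀} : Set G)) B,
      F.zR M (Subgroup.zpowers (σ ^ M₀)) * BrauerPairs.blk M _ (blockOf M η.1) =
        BrauerPairs.blk M _ (blockOf M η.1) := by
  classical
  haveI : Fact (Nat.Prime 2) := ⟨Nat.prime_two⟩
  by_contra hno
  push Not at hno
  refine hχ ?_
  letI := Fintype.ofFinite (Subgroup.centralizer ({σ ^ M₀} : Set G))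
  have hin : ∀ v : d.V, (v : G) ∈ Subgroup.centralizer ({σ ^ M₀} : Set G) := fun v =>
    Subgroup.mem_centralizer_singleton_iff.2 (d.commute_J v.2).symm.eq
  rw [Finset.sum_congr rfl fun v _ => by
    rw [apply_eq_sum d hpM hB hχB M₀ v.2 (d.commute_J v.2).symm (hin v), Finset.sum_mul]]
  rw [Finset.sum_comm]
  refine Finset.sum_eq_zero fun k _ => ?_
  simp only [Blocks.blockCoeff_eq_sum, Finset.mul_sum, Finset.sum_mul]
  rw [Finset.sum_comm]
  refine Finset.sum_eq_zero fun η hη => ?_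
  have hz := (F.block_cases (x := σ ^ M₀) (Subgroup.mem_zpowers _) hpM
    (Blocks.isPBlock_blockOf η)).resolve_left fun h =>
      hno η (Finset.mem_filter.1 hη).2 h.1
  have hinj : Function.Injective fun v : d.V =>
      (⟨v, hin v⟩ : Subgroup.centralizer ({σ ^ M₀} : Set G))⁻¹ := fun a b h =>
    Subtype.ext (by simpa using h)
  have h2 := hz.2 η (Blocks.mem_blockOf_self η)
    (Finset.univ.image fun v : d.V => (⟨v, hin v⟩ : Subgroup.centralizer ({σ ^ M₀} : Set G))⁻¹)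
    (fun w => by
      simp only [Finset.mem_image, Finset.mem_univ, true_and]
      refine ⟨fun ⟨v, hv⟩ => hv ▸ d.V.inv_mem v.2, fun hw => ⟨⟨(w : G)⁻¹, d.V.inv_mem hw⟩, ?_⟩⟩
      exact Subtype.ext (inv_inv _)) k
  rw [Finset.sum_image fun a _ b _ h => hinj h] at h2
  have h3 := congrArg conj h2
  rw [map_sum, map_zero] at h3
  refine Eq.trans ?_ (show (Nat.card (Subgroup.centralizer ({σ ^ M₀} : Set G)) : ℂ)⁻¹ * η.1 1 *
    χ.1 ((k : G) * σ ^ M₀) * 0 = 0 from mul_zero _)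
  rw [← h3, Finset.mul_sum]
  refine Finset.sum_congr rfl fun v _ => ?_
  rw [map_mul, inv_inv, F.th_coe, show η.1 (k * (⟨v, hin v⟩ : Subgroup.centralizer
    ({σ ^ M₀} : Set G))⁻¹) = η.1 ((⟨v, hin v⟩ : Subgroup.centralizer
      ({σ ^ M₀} : Set G))⁻¹ * k) from ?_]
  · ring
  · exact (Char.IsClassFunction.apply_mul_comm (Blocks.irr_classFun η) _ _)

end

variable (P : Sylow 2 G) (hσ : σ ∈ (P : Subgroup G)) (hτ : τ ∈ (P : Subgroup G))
  (hform : ∀ x ∈ (P : Subgroup G), ∃ i : ℕ, x = σ ^ i ∨ x = σ ^ i * τ)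
include hσ hτ hform

variable {M : Ideal AlgInt} [M.IsMaximal] [CharP (AlgInt ⧸ M) 2]

/-- The pairs of the block at the rotations carry the idempotent. -/
theorem sec_pairs (F : Fix d) {B : MonoidAlgebra (AlgInt ⧸ M) G}
    (hBi : BrauerPairs.IsBlockIdem ⊤ B) {e₀ : MonoidAlgebra (AlgInt ⧸ M) G}
    (hmax : BrauerPairs.IsMax 2 B ((P : Subgroup G), e₀))
    (he₀z : F.zR M (P : Subgroup G) * e₀ = e₀) (i : ℕ) (hi : σ ^ i ≠ 1)
    (f : MonoidAlgebra (AlgInt ⧸ M) G)
    (hf : BrauerPairs.IsPairOf 2 B (Subgroup.zpowers (σ ^ i), f)) :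
    F.zR M (Subgroup.zpowers (σ ^ i)) * f = f := by
  classical
  haveI : Fact (Nat.Prime 2) := ⟨Nat.prime_two⟩
  have hblk : ∀ H : Subgroup G, BrauerPairs.HasBlocks (AlgInt ⧸ M) H :=
    fun H => BrauerPairs.hasBlocks M H
  set S : Subgroup G := (P : Subgroup G) with hS
  set J := σ ^ M₀ with hJ
  have hSJ : ∀ c ∈ S, Commute J c := fun c hc => commute_J_sylow d P hform hc
  have hJS : J ∈ S := pow_mem hσ M₀
  have hpair₀ : BrauerPairs.IsPair 2 (S, e₀) := hmax.1.1
  have he₀ := hpair₀.2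
  have hdown : ∀ a, BrauerPairs.PLE 2 a (S, e₀) → J ∈ a.1 → F.zR M a.1 * a.2 = a.2 :=
    fun a ha => F.down (b := (S, e₀)) hSJ he₀z ha
  obtain ⟨g, hg⟩ := BrauerPairs.exists_conj_ple hblk hBi hmax hf
  obtain ⟨e, he⟩ := d.exists_pow_eq_J d.V.one_mem hi
  rw [one_mul] at he
  have hJQ : J ∈ Subgroup.zpowers (σ ^ i) := by
    rw [hJ, ← he]; exact pow_mem (Subgroup.mem_zpowers _) e
  have hgQ : g * σ ^ i * g⁻¹ ∈ S := hg.le ⟨σ ^ i, Subgroup.mem_zpowers _, rfl⟩
  have finish : ∀ g : G, Commute J g →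
      BrauerPairs.PLE 2 (BrauerPairs.conjPair g (Subgroup.zpowers (σ ^ i), f)) (S, e₀) →
      F.zR M (Subgroup.zpowers (σ ^ i)) * f = f := by
    intro g hgJ hg
    have hmem : J ∈ (Subgroup.zpowers (σ ^ i)).map (MulAut.conj g).toMonoidHom :=
      ⟨J, hJQ, by
        show g * J * g⁻¹ = J
        rw [← hgJ.eq, mul_inv_cancel_right]⟩
    have h := hdown _ hg hmem
    simp only [BrauerPairs.conjPair] at h
    rw [← F.conjEl_zR hgJ, ← map_mul] at h
    exact (BrauerPairs.conjEl g).injective h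
  obtain ⟨j, hj | hj⟩ := hform _ hgQ
  · refine finish g ?_ hg
    have h1 : g * J * g⁻¹ ∈ d.K := by
      rw [hJ, ← he, ← conj_pow, hj, ← pow_mul, ← one_mul (σ ^ (j * e))]
      exact d.mul_pow_mem_K d.V.one_mem _
    have h2 := d.eq_J_of_invol h1 (by rw [conj_mul, d.J_sq, mul_one, mul_inv_cancel])
      fun h => d.J_ne_one (conj_eq_one_iff.1 h)
    exact (mul_inv_eq_iff_eq_mul.1 h2).symm
  -- a reflection: the element is `J`
  have hsq : σ ^ i * σ ^ i = 1 := by
    have h1 : g * σ ^ i * g⁻¹ * (g * σ ^ i * g⁻¹) = 1 := by rw [hj]; exact d.mul_tau_sq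
    rw [conj_mul] at h1
    exact conj_eq_one_iff.1 h1
  have hiJ : σ ^ i = J := (d.pow_eq_one_or_J hsq).resolve_left hi
  rw [hiJ] at hj hg hf ⊢
  obtain ⟨k, e', he', rfl⟩ : ∃ k e', e' < 2 ∧ j = 2 * k + e' := ⟨j / 2, j % 2, by omega, by omega⟩
  set g₁ := (σ ^ k)⁻¹ * g with hg₁
  have hq : g₁ * J * g₁⁻¹ = σ ^ e' * τ := by
    have hse : σ ^ (2 * k + e') * τ = σ ^ k * (σ ^ e' * τ) * (σ ^ k)⁻¹ := by
      rw [eq_mul_inv_iff_mul_eq, mul_assoc, d.t_mul_pow, ← mul_assoc, ← mul_assoc,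
        two_mul, add_right_comm, pow_add, pow_add]
      group
    calc g₁ * J * g₁⁻¹ = (σ ^ k)⁻¹ * (g * J * g⁻¹) * σ ^ k := by rw [hg₁]; group
      _ = σ ^ e' * τ := by rw [hj, hse]; group
  set q := σ ^ e' * τ with hqdef
  have hg₁le : BrauerPairs.PLE 2 (BrauerPairs.conjPair g₁ (Subgroup.zpowers J, f)) (S, e₀) := by
    have h := hg.conj (σ ^ k)⁻¹
    rw [← BrauerPairs.conjPair_mul, ← hg₁] at h
    have hks : (σ ^ k)⁻¹ ∈ S := S.inv_mem (pow_mem hσ k)
    have hfix : BrauerPairs.conjPair (σ ^ k)⁻¹ (S, e₀) = (S, e₀) :=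
      Prod.ext (BrauerPairs.map_conj_eq_of_mem_normalizer (Subgroup.le_normalizer hks))
        (BrauerPairs.mem_fixedBy.1
          (BrauerPairs.mem_fixedBy_of_supp_centralizer he₀.mem.1) _ hks)
    rwa [hfix] at h
  obtain ⟨r, hr1, -, hr3⟩ := F.hr q (by
    rw [hqdef]
    interval_cases e'
    · exact Or.inl (by rw [pow_zero, one_mul])
    · exact Or.inr (by rw [pow_one]))
  have hhJ : Commute J (r⁻¹ * g₁) := by
    refine (mul_inv_eq_iff_eq_mul.1 ?_).symm
    calc r⁻¹ * g₁ * J * (r⁻¹ * g₁)⁻¹ = r⁻¹ * (g₁ * J * g₁⁻¹) * r := by group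
      _ = r⁻¹ * (r * J * r⁻¹) * r := by rw [hq, hr1]
      _ = J := by group
  have hqS : q ∈ S := mul_mem (pow_mem hσ _) hτ
  set W := Subgroup.closure ({J, q} : Set G) with hW
  have hWS : W ≤ S := (Subgroup.closure_le _).2 (by
    intro x hx
    rcases hx with rfl | hx
    · exact hJS
    · rw [Set.mem_singleton_iff.1 hx]; exact hqS)
  have hQW : (Subgroup.zpowers J).map (MulAut.conj g₁).toMonoidHom = Subgroup.zpowers q := by
    rw [MonoidHom.map_zpowers]
    exact congrArg _ hq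
  have hJW : J ∈ W := Subgroup.subset_closure (Set.mem_insert _ _)
  have hqW : q ∈ W := Subgroup.subset_closure (Set.mem_insert_of_mem _ rfl)
  have hWC : W ≤ Subgroup.centralizer ({q} : Set G) := (Subgroup.closure_le _).2 (by
    intro x hx
    rcases hx with rfl | hx
    · exact Subgroup.mem_centralizer_singleton_iff.2 (hSJ q hqS).eq
    · rw [Set.mem_singleton_iff.1 hx]; exact Subgroup.mem_centralizer_singleton_iff.2 rfl)
  have hWn : W ≤ Subgroup.normalizer (Subgroup.zpowers q : Set G) :=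
    hWC.trans (Blocks.centralizer_zpowers_eq.ge.trans (Subgroup.centralizer_le_normalizer _))
  obtain ⟨fW, hfW⟩ := BrauerPairs.exists_ple hblk hpair₀ W hWS
  obtain ⟨f', hf', -⟩ := BrauerPairs.existsUnique_step hblk (hfW.isPair_left hpair₀)
    (Subgroup.zpowers_le.2 hqW) hWn
  have hf'eq : f' = BrauerPairs.conjEl g₁ f := by
    refine BrauerPairs.ple_unique hblk hpair₀ _ _ _ (Relation.ReflTransGen.head hf' hfW) ?_
    rw [← hQW]
    exact hg₁le
  subst hf'eq
  have hfWz : F.zR M W * fW = fW := hdown (W, fW) hfW hJW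
  set z := BrauerPairs.conjEl g₁ (F.zR M (Subgroup.zpowers J)) with hz
  have hzmem : z ∈ BrauerPairs.centerIn (AlgInt ⧸ M)
      (Subgroup.centralizer (Subgroup.zpowers q : Set G)) := by
    rw [← hQW, ← BrauerPairs.map_conj_centralizer]
    exact BrauerPairs.conjEl_mem_centerIn _ (F.zR_mem (Subgroup.mem_zpowers J))
  have hzW : z ∈ BrauerPairs.fixedBy (AlgInt ⧸ M) W :=
    BrauerPairs.fixedBy_anti (hWC.trans Blocks.centralizer_zpowers_eq.ge) hzmem.2
  have hbr : BrauerPairs.br W z = F.zR M W := by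
    rw [hz, Fix.zR, conjEl_twEl, br_twEl hf'.2.1.1, Fix.zR]
    · refine twEl_congr ?_ ?_
      · ext x
        simp only [Subgroup.mem_inf, Subgroup.mem_map_equiv, MulAut.conj_symm_apply]
        have hmemV : x ∈ Subgroup.centralizer (W : Set G) →
            (g₁⁻¹ * x * g₁ ∈ d.V ↔ x ∈ d.V) := by
          intro hxW
          have h1 : orderOf (g₁⁻¹ * x * g₁) = orderOf x := by
            simpa using MulEquiv.orderOf_eq (MulAut.conj g₁⁻¹) x
          have h2 : Commute J (g₁⁻¹ * x * g₁) := by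
            have h := (show Commute q x from Subgroup.mem_centralizer_iff.1 hxW q hqW).map
              (MulAut.conj g₁⁻¹)
            simp only [MulAut.conj_apply, inv_inv] at h
            rwa [show g₁⁻¹ * q * g₁ = J by rw [← hq]; group] at h
          rw [d.mem_V, d.mem_V, h1]
          exact ⟨fun h => ⟨Subgroup.mem_centralizer_iff.1 hxW J hJW, h.2⟩, fun h => ⟨h2, h.2⟩⟩
        constructor
        · rintro ⟨⟨h1, -⟩, h2⟩
          exact ⟨(hmemV h2).1 h1, h2⟩
        · rintro ⟨h1, h2⟩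
          refine ⟨⟨(hmemV h2).2 h1, ?_⟩, h2⟩
          rw [Blocks.centralizer_zpowers_eq, Subgroup.mem_centralizer_singleton_iff]
          exact ((d.mem_V _).1 ((hmemV h2).2 h1)).1.symm.eq
      · rintro x ⟨hx1, hxW⟩
        obtain ⟨y, hy, rfl⟩ := hx1
        have hyq : Commute q ((MulAut.conj g₁).toMonoidHom y) :=
          Subgroup.mem_centralizer_iff.1 hxW q hqW
        have hxV : (MulAut.conj g₁).toMonoidHom y ∈ d.V := (d.mem_V _).2
          ⟨Subgroup.mem_centralizer_iff.1 hxW J hJW, by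
            rw [MulEquiv.coe_toMonoidHom, MulEquiv.orderOf_eq]; exact d.odd_of_mem hy.1⟩
        have e : g₁⁻¹ * (MulAut.conj g₁).toMonoidHom y * g₁ = y := by simp [mul_assoc]
        simp only [e]
        congr 1
        set w := r⁻¹ * (MulAut.conj g₁).toMonoidHom y * r with hw
        have hwy : w = r⁻¹ * g₁ * y * (r⁻¹ * g₁)⁻¹ := by
          rw [hw]; simp [mul_assoc]
        have hwV : w ∈ d.V := hwy ▸ d.normV _ hhJ y hy.1
        have h := hr3 ⟨_, hxV⟩ ⟨w, hwV⟩ hyq rfl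
        rw [← F.th_coe, ← F.th_coe] at h
        have h' : F.th w = F.th ((MulAut.conj g₁).toMonoidHom y) := h
        rw [← h', hwy, F.th_conj hhJ hy.1]
    · intro c hc
      refine BrauerPairs.mem_normalizer_of_conj_le ?_
      rintro _ ⟨y, hy, rfl⟩
      have hcQ := hWC hc
      have hh : Commute J (g₁⁻¹ * c * g₁) := by
        have h := (show Commute c q from Subgroup.mem_centralizer_singleton_iff.1 hcQ).symm.map
          (MulAut.conj g₁⁻¹)
        simp only [MulAut.conj_apply, inv_inv] at h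
        rwa [show g₁⁻¹ * q * g₁ = J by rw [← hq]; group] at h
      refine ⟨g₁⁻¹ * c * g₁ * y * (g₁⁻¹ * c * g₁)⁻¹, ⟨d.normV _ hh y hy.1, ?_⟩, ?_⟩
      · rw [Blocks.centralizer_zpowers_eq]
        exact Subgroup.mem_centralizer_singleton_iff.2
          (d.commute_J (d.normV _ hh y hy.1)).symm.eq
      · simp [mul_assoc]
  have h := step_down hf' hzmem (by rw [hz, ← map_mul, F.zR_idem]) hzW (by rw [hbr]; exact hfWz)
  simp only [hz, ← map_mul] at h
  exact (BrauerPairs.conjEl g₁).injective h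

/-- The Sylow pair of the block. -/
theorem exists_sylow_pair [Fintype d.V] (F : Fix d) (hpM : ((2 : ℕ) : AlgInt) ∈ M)
    {χ : IrrCharacter G} {B : Set (IrrCharacter G)} (hB : IsPBlock M B) (hχB : χ ∈ B)
    (hχ : (∑ v : d.V, χ.1 (σ ^ M₀ * v) * conj (F.θ v)) ≠ 0) :
    ∃ e, BrauerPairs.IsMax 2 (BrauerPairs.blkG M B) ((P : Subgroup G), e) ∧
      F.zR M (P : Subgroup G) * e = e := by
  classical
  haveI : Fact (Nat.Prime 2) := ⟨Nat.prime_two⟩
  have hblk : ∀ H : Subgroup G, BrauerPairs.HasBlocks (AlgInt ⧸ M) H :=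
    fun H => BrauerPairs.hasBlocks M H
  set S : Subgroup G := (P : Subgroup G) with hS
  set J := σ ^ M₀ with hJ
  have hSJ : ∀ c ∈ S, Commute J c := fun c hc => commute_J_sylow d P hform hc
  have hJS : J ∈ S := pow_mem hσ M₀
  have hBi := BrauerPairs.isBlockIdem_blkG (M := M) hB
  obtain ⟨η₀, hη₀, hη₀z⟩ := exists_component F hpM hB hχB hχ
  obtain ⟨e₀, he₀, he₀z⟩ : ∃ e, BrauerPairs.IsBlockIdem (Subgroup.centralizer (S : Set G)) e ∧
      F.zR M S * e = e := by
    obtain ⟨s, hs, h1⟩ := hblk (Subgroup.centralizer (S : Set G))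
    by_contra hno
    push Not at hno
    refine twEl_ne_zero (k := AlgInt ⧸ M) (p := 2)
      (K := d.V ⊓ Subgroup.centralizer (S : Set G)) (Fix.not_two_dvd _)
      (f := fun x => Blocks.red M (F.th x))
      (F.red_mulOn (Subgroup.centralizer (S : Set G))).1 ?_
    show F.zR M S = 0
    calc F.zR M S = F.zR M S * ∑ e ∈ s, e := by rw [h1, mul_one]
      _ = 0 := by
        rw [Finset.mul_sum]
        exact Finset.sum_eq_zero fun e he => ((hs e he).mul_eq_zero_or_self (F.zR_mem hJS)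
          (F.zR_idem _)).resolve_right (hno e (hs e he))
  have hpair₀ : BrauerPairs.IsPair 2 (S, e₀) := ⟨P.isPGroup', he₀⟩
  obtain ⟨f₁, hf₁⟩ := BrauerPairs.exists_ple hblk hpair₀ (Subgroup.zpowers J)
    (Subgroup.zpowers_le.2 hJS)
  have hf₁z := F.down (b := (S, e₀)) hSJ he₀z hf₁ (Subgroup.mem_zpowers J)
  have hf₁i := (hf₁.isPair_left hpair₀).2
  rw [Blocks.centralizer_zpowers_eq] at hf₁i
  obtain ⟨b₁, hb₁, rfl⟩ := BrauerPairs.exists_eq_blk _ hf₁i
  have hb₁eq : b₁ = blockOf M η₀.1 :=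
    F.block_unique hpM hb₁ (Blocks.isPBlock_blockOf η₀) hf₁z hη₀z
  refine ⟨e₀, BrauerPairs.isMax_of_sylow ((BrauerPairs.ple_isPairOf_iff hBi hf₁).2 ?_) P rfl, he₀z⟩
  rw [hb₁eq]
  exact Fix.isPairOf_inducing ⟨1, by rw [hJ, d.orderOf_J, pow_one]⟩ hη₀

omit [M.IsMaximal] [CharP (AlgInt ⧸ M) 2] in
/-- The value relations. -/
theorem apply_rot_eq [Fintype d.V] (F : Fix d) (χ : IrrCharacter G)
    (hχ : (∑ v : d.V, χ.1 (σ ^ M₀ * v) * conj (F.θ v)) ≠ 0) :
    ∀ i : ℕ, 0 < i → i < 2 * M₀ → ∀ v : d.V, Commute (v : G) (σ ^ i) →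
      χ.1 (σ ^ i * v) = χ.1 (σ ^ i) * F.θ v := by
  classical
  obtain ⟨M, hM⟩ := ZStar.exists_isPModular_two
  haveI : Fact (Nat.Prime 2) := ⟨Nat.prime_two⟩
  haveI := hM.2.1
  haveI := Blocks.charP_residue (p := 2) hM.2.2
  have hpM := hM.2.2
  set J := σ ^ M₀ with hJ
  set B := blockOf M χ.1 with hBdef
  have hB : IsPBlock M B := Blocks.isPBlock_blockOf χ
  have hχB : χ ∈ B := Blocks.mem_blockOf_self χ
  obtain ⟨e₀, hmax, he₀z⟩ := exists_sylow_pair P hσ hτ hform F hpM hB hχB hχ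
  intro i h0 hi v hv
  have hi1 : σ ^ i ≠ 1 := d.pow_ne_one d.isPrimitiveRoot_zeta h0 hi
  obtain ⟨e, he⟩ := d.exists_pow_eq_J d.V.one_mem hi1
  rw [one_mul] at he
  have hJQ : J ∈ Subgroup.zpowers (σ ^ i) := by
    rw [hJ, ← he]; exact pow_mem (Subgroup.mem_zpowers _) e
  letI := Fintype.ofFinite (Subgroup.centralizer ({σ ^ i} : Set G))
  have hvC : (v : G) ∈ Subgroup.centralizer ({σ ^ i} : Set G) :=
    Subgroup.mem_centralizer_singleton_iff.2 hv.eq
  have h1 := apply_eq_sum d hpM hB hχB i d.V.one_mem (Commute.one_left _) (one_mem _)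
  rw [mul_one] at h1
  rw [apply_eq_sum d hpM hB hχB i v.2 hv hvC, h1, Finset.sum_mul]
  refine Finset.sum_congr rfl fun k _ => ?_
  simp only [Blocks.blockCoeff_eq_sum, Finset.mul_sum, Finset.sum_mul]
  refine Finset.sum_congr rfl fun η hη => ?_
  rcases F.block_cases hJQ hpM (Blocks.isPBlock_blockOf η) with ⟨-, h2⟩ | ⟨hzero, -⟩
  · have h3 := h2 η (Blocks.mem_blockOf_self η) (⟨v, hvC⟩ : Subgroup.centralizer ({σ ^ i} : Set G))⁻¹
      k (d.V.inv_mem v.2)
    have hu : (⟨1, one_mem _⟩ : Subgroup.centralizer ({σ ^ i} : Set G)) = 1 := rfl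
    rw [hu, inv_one, mul_one, Char.IsClassFunction.apply_mul_comm (Blocks.irr_classFun η) k, h3, map_mul, Subgroup.coe_inv,
      F.conj_th_inv v.2, F.th_coe]
    ring
  · exfalso
    refine (BrauerPairs.isBlockIdem_blk (M := M) _ (Blocks.isPBlock_blockOf η)).ne_zero ?_
    rw [← hzero]
    exact (sec_pairs P hσ hτ hform F (BrauerPairs.isBlockIdem_blkG (M := M) hB) hmax he₀z i hi1 _
      (Fix.isPairOf_inducing (two_pow_rot d i) (Finset.mem_filter.1 hη).2)).symm

/-- **Section B, unconditional**: no nontrivial fixed linear character of the core. -/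
theorem false_of_nontrivial [IsSimpleGroup G] (hG : ¬ IsMulCommutative G) (F : Fix d)
    (hθ : F.θ ≠ 1) : False := by
  classical
  letI := Fintype.ofFinite d.V
  exact false_of_fixed P hσ hτ hform hG F hθ fun χ hχ => apply_rot_eq P hσ hτ hform F χ hχ

end Cfsg.Agent.GW.LinearFixed
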